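import Cfsg.Agent.H99.FC.S4End
import Cfsg.Agent.H886.FC.ClassB

/-!
# S5764, StmtBC6 for `PSp_4`, `q` odd (helper99, task 5397)

`A = 2^4`: the five self-adjoint classes `Z₀, …, Z₄` of `A` pairwise anticommute (an orthonormal frame of the orthogonal
space of dimension 5), `S` acts on them as a transitive solvable group of degree 5.  Final theorem: `bc6S4`.
-/

set_option autoImplicit false
set_option linter.unusedSectionVars false

namespace Cfsg.Agent.H99.FC

open Equiv

theorem perm5 (G : Subgroup (Perm (Fin 5))) (hG : Group.IsSolvable G) (ht : ∀ i j, ∃ g ∈ G, g i = j)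
    {g : Perm (Fin 5)} (hg : g ∈ G) {i j : Fin 5} (hij : i ≠ j) (hi : g i = i) (hj : g j = j) : g = 1 := by
  by_contra hne
  have : MulAction.IsPretransitive G (Fin 5) := ⟨fun i j => by
    obtain ⟨g, hg, h⟩ := ht i j
    exact ⟨⟨g, hg⟩, h⟩⟩
  have hprim : MulAction.IsPreprimitive G (Fin 5) := MulAction.IsPreprimitive.of_prime_card (by
    rw [Nat.card_eq_fintype_card, Fintype.card_fin]
    norm_num)
  have h1 : g.support ⊆ Finset.univ \ {i, j} := by
    intro k hk
    rw [Finset.mem_sdiff]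
    refine ⟨Finset.mem_univ k, ?_⟩
    rw [Finset.mem_insert, Finset.mem_singleton]
    rintro (h | h)
    · rw [h] at hk
      exact (Perm.mem_support.1 hk) hi
    · rw [h] at hk
      exact (Perm.mem_support.1 hk) hj
  have h2 : g.support.card ≤ 3 := by
    have h := Finset.card_le_card h1
    rw [Finset.card_sdiff_of_subset (Finset.subset_univ _), Finset.card_univ, Fintype.card_fin, Finset.card_pair hij] at h
    exact h
  have h3 : g.support.card ≠ 0 := by
    intro h
    rw [Finset.card_eq_zero, Perm.support_eq_empty_iff] at h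
    exact hne h
  have h4 : g.support.card ≠ 1 := Perm.card_support_ne_one g
  have hA : alternatingGroup (Fin 5) ≤ G := by
    have h5 : g.support.card = 2 ∨ g.support.card = 3 := by omega
    rcases h5 with h5 | h5
    · have h6 := Perm.subgroup_eq_top_of_isPreprimitive_of_isSwap_mem hprim g (Perm.card_support_eq_two.1 h5) hg
      rw [h6]
      exact le_top
    · exact Perm.alternatingGroup_le_of_isPreprimitive_of_isThreeCycle_mem hprim
        (card_support_eq_three_iff.1 h5) hg
  apply Equiv.Perm.not_isSolvable_fin_5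
  have hA' : Group.IsSolvable (alternatingGroup (Fin 5)) :=
    Group.isSolvable_of_isSolvable_injective (f := Subgroup.inclusion hA) (Subgroup.inclusion_injective hA)
  exact Group.isSolvable_of_ker_le_range (alternatingGroup (Fin 5)).subtype (Perm.sign (α := Fin 5)) (by
    rw [Subgroup.range_subtype]
    exact le_refl _)

theorem count16 {A : Type*} [CommGroup A] [Fintype A] (hA : Fintype.card A = 16) (e : A → ℤˣ) (χ : A → A → ℤˣ)
    (h1 : ∀ a b, e (a * b) = e a * e b * χ a b) (h2 : ∀ a b c, χ a (b * c) = χ a b * χ a c) (h3 : ∀ a : A, a * a = 1)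
    (h4 : ∀ a, a ≠ 1 → ∃ b, χ a b = -1) (h5 : (Finset.univ.filter fun a => e a = 1).card = 6) (h6 : ∀ a, χ a a = 1)
    (a b : A) (ha : a ≠ 1) (hb : b ≠ 1) (hab : a ≠ b) (hea : e a = 1) (heb : e b = 1) : χ a b = -1 := by
  classical
  by_contra hne
  have hpm : ∀ u : ℤˣ, u ≠ 1 → u = -1 := fun u h => (Int.units_eq_one_or u).resolve_left h
  have hpm' : ∀ u : ℤˣ, u ≠ -1 → u = 1 := fun u h => (Int.units_eq_one_or u).resolve_right h
  obtain ⟨b0, hb0⟩ := h4 a ha
  have he1 : e 1 = 1 := by
    have h := h1 a a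
    rw [h3, hea, h6] at h
    simpa using h
  have hx1 : χ a 1 = 1 := by
    have h := h2 a 1 1
    rw [mul_one] at h
    exact left_eq_mul.1 h
  -- `|N| = 8`
  have hN : (Finset.univ.filter fun x => χ a x = -1).card = (Finset.univ.filter fun x => ¬ χ a x = -1).card := by
    refine Finset.card_bij' (fun x _ => x * b0) (fun x _ => x * b0) ?_ ?_ ?_ ?_
    · intro x hx
      rw [Finset.mem_filter] at hx ⊢
      refine ⟨Finset.mem_univ _, ?_⟩
      rw [h2, hx.2, hb0]
      decide
    · intro x hx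
      rw [Finset.mem_filter] at hx ⊢
      refine ⟨Finset.mem_univ _, ?_⟩
      rw [h2, hpm' _ hx.2, hb0, one_mul]
    · intro x _
      change x * b0 * b0 = x
      rw [mul_assoc, h3, mul_one]
    · intro x _
      change x * b0 * b0 = x
      rw [mul_assoc, h3, mul_one]
  have hN8 : (Finset.univ.filter fun x => χ a x = -1).card = 8 := by
    have h := Finset.card_filter_add_card_filter_not (s := (Finset.univ : Finset A)) (fun x => χ a x = -1)
    rw [← hN, Finset.card_univ, hA] at h
    omega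
  -- `|N ∩ P| = 4`
  have hNP : ((Finset.univ.filter fun x => χ a x = -1).filter fun x => e x = 1).card =
      ((Finset.univ.filter fun x => χ a x = -1).filter fun x => ¬ e x = 1).card := by
    refine Finset.card_bij' (fun x _ => a * x) (fun x _ => a * x) ?_ ?_ ?_ ?_
    · intro x hx
      rw [Finset.mem_filter, Finset.mem_filter] at hx ⊢
      refine ⟨⟨Finset.mem_univ _, ?_⟩, ?_⟩
      · rw [h2, h6, hx.1.2, one_mul]
      · rw [h1, hea, hx.2, hx.1.2]
        decide
    · intro x hx
      rw [Finset.mem_filter, Finset.mem_filter] at hx ⊢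
      refine ⟨⟨Finset.mem_univ _, ?_⟩, ?_⟩
      · rw [h2, h6, hx.1.2, one_mul]
      · rw [h1, hea, hpm _ hx.2, hx.1.2]
        decide
    · intro x _
      change a * (a * x) = x
      rw [← mul_assoc, h3, one_mul]
    · intro x _
      change a * (a * x) = x
      rw [← mul_assoc, h3, one_mul]
  have hNP4 : ((Finset.univ.filter fun x => χ a x = -1).filter fun x => e x = 1).card = 4 := by
    have h := Finset.card_filter_add_card_filter_not (s := Finset.univ.filter fun x => χ a x = -1) (fun x => e x = 1)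
    rw [← hNP, hN8] at h
    omega
  have h7 : ((Finset.univ.filter fun x => e x = 1).filter fun x => ¬ χ a x = -1).card = 2 := by
    have h := Finset.card_filter_add_card_filter_not (s := Finset.univ.filter fun x => e x = 1) (fun x => χ a x = -1)
    rw [Finset.filter_comm, hNP4, h5] at h
    omega
  have h8 : ({1, a, b} : Finset A) ⊆ (Finset.univ.filter fun x => e x = 1).filter fun x => ¬ χ a x = -1 := by
    intro x hx
    rw [Finset.mem_filter, Finset.mem_filter]
    rw [Finset.mem_insert, Finset.mem_insert, Finset.mem_singleton] at hx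
    rcases hx with rfl | rfl | rfl
    · refine ⟨⟨Finset.mem_univ _, he1⟩, ?_⟩
      rw [hx1]; decide
    · refine ⟨⟨Finset.mem_univ _, hea⟩, ?_⟩
      rw [h6]; decide
    · exact ⟨⟨Finset.mem_univ _, heb⟩, hne⟩
  have h9 := Finset.card_le_card h8
  rw [h7, Finset.card_insert_of_notMem (by simp [ha.symm, hb.symm]), Finset.card_pair hab] at h9
  omega

end Cfsg.Agent.H99.FC

namespace Cfsg.Agent.H99.FC

open Module Cfsg.Agent.H198.FC

universe u v

variable {K : Type u} [Field K] {V : Type v} [AddCommGroup V] [Module K V]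

theorem center_smul (X : R K V) (h : ∀ Y : R K V, Y * X = X * Y) : ∃ c : K, X = c • (1 : R K V) := by
  have h1 : X ∈ Set.center (Module.End K V) := Semigroup.mem_center_iff.2 h
  obtain ⟨α, hα, h⟩ := Module.End.mem_center_iff.1 h1
  refine ⟨α, ?_⟩
  rw [h]
  ext v
  rfl

theorem cj_eq [Nontrivial V] {x y : (R K V)ˣ} (h : cj K V x = cj K V y) :
    ∃ c : K, c ≠ 0 ∧ (x : R K V) = c • (y : R K V) := by
  have h1 : ∀ Y : R K V, Y * ((y⁻¹ * x : (R K V)ˣ) : R K V) = ((y⁻¹ * x : (R K V)ˣ) : R K V) * Y := by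
    intro Y
    have h2 := Equiv.congr_fun h Y
    rw [cj_apply, cj_apply] at h2
    rw [Units.val_mul]
    have h3 : (x : R K V) * Y = y * Y * (y⁻¹ : (R K V)ˣ) * x := by
      rw [← h2, mul_assoc, Units.inv_mul, mul_one]
    rw [mul_assoc, h3]
    simp only [← mul_assoc, Units.inv_mul, one_mul]
  obtain ⟨c, hc⟩ := center_smul _ h1
  refine ⟨c, ?_, ?_⟩
  · rintro rfl
    rw [zero_smul] at hc
    exact (y⁻¹ * x).ne_zero hc
  · have h4 : (x : R K V) = y * ((y⁻¹ * x : (R K V)ˣ) : R K V) := by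
      rw [← Units.val_mul, mul_inv_cancel_left]
    rw [h4, hc, mul_smul_comm, mul_one]

theorem cj_smul {x y : (R K V)ˣ} {c : K} (h : (x : R K V) = c • (y : R K V)) : cj K V x = cj K V y := by
  apply Equiv.ext
  intro X
  rw [cj_apply, cj_apply]
  by_cases hc : c = 0
  · rw [hc, zero_smul] at h
    have h1 : (1 : R K V) = 0 := by rw [← x.mul_inv, h, zero_mul]
    have h2 : ∀ Y : R K V, Y = 0 := fun Y => by rw [← mul_one Y, h1, mul_zero]
    rw [h2 (_ * _ * _)]
    exact (h2 _).symm
  · have h3 : ((x⁻¹ : (R K V)ˣ) : R K V) = c⁻¹ • ((y⁻¹ : (R K V)ˣ) : R K V) := by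
      have h4 : (x : R K V) * (c⁻¹ • ((y⁻¹ : (R K V)ˣ) : R K V)) = 1 := by
        rw [h, smul_mul_smul_comm, mul_inv_cancel₀ hc, one_smul, Units.mul_inv]
      rw [← mul_one ((x⁻¹ : (R K V)ˣ) : R K V), ← h4, ← mul_assoc, Units.inv_mul, one_mul]
    rw [h3, h]
    simp only [smul_mul_assoc, mul_smul_comm, smul_smul]
    rw [inv_mul_cancel₀ hc, one_smul]

/-- the unit `f x` -/
def mapU {f : Equiv.Perm (R K V)} (hf : f ∈ RP K V) (x : (R K V)ˣ) : (R K V)ˣ where
  val := f x
  inv := f ((x⁻¹ : (R K V)ˣ) : R K V)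
  val_inv := by rw [← hf.2, Units.mul_inv, map_one' hf]
  inv_val := by rw [← hf.2, Units.inv_mul, map_one' hf]

theorem cj_mapU {f : Equiv.Perm (R K V)} (hf : f ∈ RP K V) (x : (R K V)ˣ) :
    cj K V (mapU hf x) = f * cj K V x * f⁻¹ := by
  apply Equiv.ext
  intro X
  obtain ⟨Y, rfl⟩ := f.surjective X
  have h : f⁻¹ (f Y) = Y := f.symm_apply_apply Y
  rw [Equiv.Perm.mul_apply, Equiv.Perm.mul_apply, h, cj_apply, cj_apply, hf.2, hf.2]
  rfl

section lift

variable [Nontrivial V]

/-- two commuting elements of `PGL(V)` of order 2: the lifts commute or anticommute -/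
theorem comm_or {x y : (R K V)ˣ} (hxy : cj K V x * cj K V y = cj K V y * cj K V x) (hx : cj K V x ^ 2 = 1) :
    (x : R K V) * y = y * x ∨ (x : R K V) * y = -(y * x) := by
  rw [← map_mul, ← map_mul] at hxy
  obtain ⟨c, hc, h⟩ := cj_eq hxy
  rw [← map_pow, ← map_one (cj K V)] at hx
  obtain ⟨d, hd, h'⟩ := cj_eq hx
  rw [Units.val_mul, Units.val_mul] at h
  rw [Units.val_pow_eq_pow_val, Units.val_one] at h'
  have h1 : (x : R K V) ^ 2 * y = (c * c) • (y * (x : R K V) ^ 2) := by
    rw [pow_two, mul_assoc, h, mul_smul_comm, ← mul_assoc, h, smul_mul_assoc, smul_smul, mul_assoc]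
  rw [h', smul_mul_assoc, one_mul, mul_smul_comm, mul_one, smul_smul] at h1
  have h2 : (d - c * c * d) • (y : R K V) = 0 := by
    rw [sub_smul, ← h1, sub_self]
  have h3 := (smul_eq_zero.1 h2).resolve_right y.ne_zero
  have h4 : (c - 1) * (c + 1) = 0 := by
    have h5 : d * ((c - 1) * (c + 1)) = 0 := by linear_combination -h3
    exact (mul_eq_zero.1 h5).resolve_left hd
  rcases mul_eq_zero.1 h4 with h5 | h5
  · left
    rw [h, sub_eq_zero.1 h5, one_smul]
  · right
    rw [h, eq_neg_of_add_eq_zero_left h5, neg_smul, one_smul]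

theorem sq_smul {x : (R K V)ˣ} (hx : cj K V x ^ 2 = 1) : ∃ d : K, d ≠ 0 ∧ (x : R K V) * x = d • (1 : R K V) := by
  rw [← map_pow, ← map_one (cj K V)] at hx
  obtain ⟨d, hd, h'⟩ := cj_eq hx
  rw [Units.val_pow_eq_pow_val, Units.val_one, pow_two] at h'
  exact ⟨d, hd, h'⟩

/-- self-adjoint or skew-adjoint -/
theorem adj_or [Finite K] [FiniteDimensional K V] {b : Cl K V} (hb : ∀ a, b.τ a = a) {x : (R K V)ˣ}
    (hx : cj K V x ^ 2 = 1) (hxb : cj K V x ∈ RB b) :
    b.Adj (x : R K V) (x : R K V) ∨ b.Adj (x : R K V) (-(x : R K V)) := by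
  obtain ⟨d, hd, hdx⟩ := sq_smul hx
  obtain ⟨X', hX'⟩ := H886.FC.exists_adj b (x : R K V)
  obtain ⟨Y', hY'⟩ := H886.FC.exists_adj b ((x⁻¹ : (R K V)ˣ) : R K V)
  have hYX : Y' * X' = 1 := by
    refine H886.FC.adj_unique b (H886.FC.adj_mul b hX' hY') ?_
    rw [Units.mul_inv]
    exact adj_one
  have h1 : ∀ Y : R K V, Y * (X' * x) = X' * x * Y := by
    intro Y
    obtain ⟨Z, hZ⟩ := H886.FC.exists_adj b Y
    have h2 := (hxb.2 Z Y).1 (H886.FC.adj_symm b hZ)
    rw [cj_apply, cj_apply] at h2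
    have h3 : b.Adj ((x : R K V) * Z * ((x⁻¹ : (R K V)ˣ) : R K V)) (Y' * (Y * X')) :=
      H886.FC.adj_mul b (H886.FC.adj_mul b hX' (H886.FC.adj_symm b hZ)) hY'
    have h4 := H886.FC.adj_unique b h2 h3
    have h5 : X' * ((x : R K V) * Y * ((x⁻¹ : (R K V)ˣ) : R K V)) * x = X' * (Y' * (Y * X')) * x := by rw [h4]
    have h6 : X' * Y' = 1 := by
      refine H886.FC.adj_unique b (H886.FC.adj_mul b hY' hX') ?_
      rw [Units.inv_mul]
      exact adj_one
    rw [← mul_assoc X' Y', h6, one_mul] at h5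
    rw [← mul_assoc, ← h5]
    simp only [mul_assoc, Units.inv_mul, mul_one]
  obtain ⟨μ, hμ⟩ := center_smul _ h1
  have h2 : X' = (μ * d⁻¹) • (x : R K V) := by
    have h3 : X' * x * x = d • X' := by rw [mul_assoc, hdx, mul_smul_comm, mul_one]
    rw [hμ, smul_mul_assoc, one_mul] at h3
    rw [mul_comm, mul_smul, h3, smul_smul, inv_mul_cancel₀ hd, one_smul]
  set e : K := μ * d⁻¹ with he
  have h3 : e * e = 1 := by
    have h4 : b.Adj X' (e • X') := by
      rw [h2]
      have := adj_smul hb hX' e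
      rw [h2] at this
      exact this
    have h5 := H886.FC.adj_unique b h4 (H886.FC.adj_symm b hX')
    rw [h2, smul_smul] at h5
    have h6 : (e * e - 1) • (x : R K V) = 0 := by rw [sub_smul, one_smul, h5, sub_self]
    exact sub_eq_zero.1 ((smul_eq_zero.1 h6).resolve_right x.ne_zero)
  have h4 : (e - 1) * (e + 1) = 0 := by linear_combination h3
  rcases mul_eq_zero.1 h4 with h5 | h5
  · left
    rw [sub_eq_zero.1 h5, one_smul] at h2
    rw [h2] at hX'
    exact hX'
  · right
    rw [eq_neg_of_add_eq_zero_left h5, neg_smul, one_smul] at h2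
    rw [h2] at hX'
    exact hX'

end lift

/-! ### the lifts -/

/-- the data -/
structure Lf (b : Cl K V) (A : Subgroup (Equiv.Perm (R K V))) (L : A → (R K V)ˣ) : Prop where
  tau : ∀ a, b.τ a = a
  alt : ∀ v, b.B v v = 0
  fin : Module.finrank K V = 4
  cj : ∀ a, H198.FC.cj K V (L a) = a
  sq : ∀ a : A, a * a = 1
  comm : ∀ a c : A, a * c = c * a
  rb : A ≤ RB b
  span : Submodule.span K (Set.range fun a => (L a : R K V)) = ⊤
  card : Nat.card A = 16

theorem two_ne_zero_of {b : Cl K V} {A : Subgroup (Equiv.Perm (R K V))} {L : A → (R K V)ˣ} (h : Lf b A L) [Nontrivial V] :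
    (2 : K) ≠ 0 := by
  intro h2
  have hcom : ∀ a c : A, (L a : R K V) * L c = L c * L a := by
    intro a c
    rcases comm_or (x := L a) (y := L c) (by
      rw [h.cj, h.cj]
      exact congrArg Subtype.val (h.comm a c)) (by
        rw [h.cj, pow_two]
        exact congrArg Subtype.val (h.sq a)) with h1 | h1
    · exact h1
    · rw [h1]
      have h3 : (2 : K) • ((L c : R K V) * L a) = 0 := by rw [h2, zero_smul]
      rw [two_smul] at h3
      exact neg_eq_of_add_eq_zero_left h3
  have hone : ∀ a : A, a = 1 := by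
    intro a
    have h1 : ∀ Y : R K V, Y * (L a : R K V) = (L a : R K V) * Y := by
      intro Y
      have hY : Y ∈ Submodule.span K (Set.range fun a => (L a : R K V)) := by
        rw [h.span]; trivial
      induction hY using Submodule.span_induction with
      | mem x hx =>
        obtain ⟨c, rfl⟩ := hx
        exact hcom c a
      | zero => rw [zero_mul, mul_zero]
      | add x y _ _ hx hy => rw [add_mul, mul_add, hx, hy]
      | smul t x _ hx => rw [smul_mul_assoc, mul_smul_comm, hx]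
    obtain ⟨c, hc⟩ := center_smul _ h1
    have h2 : cj K V (L a) = cj K V 1 := cj_smul (c := c) (by rw [hc, Units.val_one])
    rw [h.cj, map_one] at h2
    exact Subtype.ext h2
  have h3 : Nat.card A ≤ 1 := by
    have : Subsingleton A := ⟨fun a c => by rw [hone a, hone c]⟩
    exact Finite.card_le_one_iff_subsingleton.2 this
  rw [h.card] at h3
  omega

namespace Lf

variable [Nontrivial V] [Finite K] [FiniteDimensional K V] {b : Cl K V} {A : Subgroup (Equiv.Perm (R K V))}
  {L : A → (R K V)ˣ} (h : Lf b A L)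
include h

theorem pow_two (a : A) : H198.FC.cj K V (L a) ^ 2 = 1 := by
  rw [h.cj, _root_.pow_two]
  exact congrArg Subtype.val (h.sq a)

theorem com_or (a c : A) : (L a : R K V) * L c = L c * L a ∨ (L a : R K V) * L c = -(L c * L a) :=
  comm_or (by
    rw [h.cj, h.cj]
    exact congrArg Subtype.val (h.comm a c)) (h.pow_two a)

theorem two : (2 : K) ≠ 0 := two_ne_zero_of h

theorem ne_neg {X : R K V} (hX : X ≠ 0) : X ≠ -X := by
  intro h1
  have h2 : (2 : K) • X = 0 := by
    rw [two_smul]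
    nth_rw 2 [h1]
    rw [add_neg_cancel]
  exact hX ((smul_eq_zero.1 h2).resolve_left h.two)

open Classical in
/-- the commutator form -/
noncomputable def chi (_ : Lf b A L) (a c : A) : ℤˣ := if (L a : R K V) * L c = L c * L a then 1 else -1

open Classical in
/-- the type -/
noncomputable def ee (_ : Lf b A L) (a : A) : ℤˣ := if b.Adj (L a : R K V) (L a : R K V) then 1 else -1

theorem chi_eq (a c : A) : (L a : R K V) * L c = (((h.chi a c : ℤˣ) : ℤ) : K) • ((L c : R K V) * L a) := by
  unfold chi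
  split_ifs with h1
  · rw [h1]; simp
  · rw [(h.com_or a c).resolve_left h1]; simp

theorem ee_adj (a : A) : b.Adj (L a : R K V) ((((h.ee a : ℤˣ) : ℤ) : K) • (L a : R K V)) := by
  unfold ee
  split_ifs with h1
  · simpa using h1
  · have h2 := (adj_or h.tau (h.pow_two a) (h.rb (by rw [h.cj]; exact a.2))).resolve_left h1
    simpa using h2

theorem cast_inj {u w : ℤˣ} (huw : ((u : ℤ) : K) = ((w : ℤ) : K)) : u = w := by
  rcases Int.units_eq_one_or u with rfl | rfl <;> rcases Int.units_eq_one_or w with rfl | rfl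
  · rfl
  · exfalso
    apply h.two
    have h2 : (1 : K) = -1 := by simpa using huw
    have h3 : (2 : K) = 1 - (-1) := by norm_num
    rw [h3, ← h2, sub_self]
  · exfalso
    apply h.two
    have h2 : (-1 : K) = 1 := by simpa using huw
    have h3 : (2 : K) = 1 - (-1) := by norm_num
    rw [h3, h2, sub_self]
  · rfl

theorem mul_eq (a c : A) : ∃ t : K, t ≠ 0 ∧ (L (a * c) : R K V) = t • ((L a : R K V) * L c) := by
  have h1 : H198.FC.cj K V (L (a * c)) = H198.FC.cj K V (L a * L c) := by
    rw [h.cj, map_mul, h.cj, h.cj]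
    rfl
  obtain ⟨t, ht, h2⟩ := cj_eq h1
  exact ⟨t, ht, h2⟩

theorem chi_of {a c : A} {u : ℤˣ} (hu : (L a : R K V) * L c = ((u : ℤ) : K) • ((L c : R K V) * L a)) :
    h.chi a c = u := by
  apply h.cast_inj
  have h1 := h.chi_eq a c
  rw [hu] at h1
  have h2 : (L c : R K V) * L a ≠ 0 := by
    rw [← Units.val_mul]
    exact Units.ne_zero _
  have h3 : (((u : ℤ) : K) - (((h.chi a c : ℤˣ) : ℤ) : K)) • ((L c : R K V) * L a) = 0 := by
    rw [sub_smul, h1, sub_self]
  exact (sub_eq_zero.1 ((smul_eq_zero.1 h3).resolve_right h2)).symm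

theorem chi_self (a : A) : h.chi a a = 1 := h.chi_of (by simp)

theorem chi_mul (a c d : A) : h.chi a (c * d) = h.chi a c * h.chi a d := by
  apply h.chi_of
  obtain ⟨t, ht, h1⟩ := h.mul_eq c d
  rw [h1, mul_smul_comm, smul_mul_assoc, ← mul_assoc, h.chi_eq a c, smul_mul_assoc, mul_assoc, h.chi_eq a d,
    mul_smul_comm, smul_smul, smul_smul, smul_smul, mul_assoc]
  push_cast
  congr 1
  ring

theorem ee_mul (a c : A) : h.ee (a * c) = h.ee a * h.ee c * h.chi a c := by
  apply h.cast_inj
  obtain ⟨t, ht, h1⟩ := h.mul_eq a c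
  have h2 : b.Adj (t • ((L a : R K V) * L c)) (t • (((((h.ee c : ℤˣ) : ℤ) : K) • (L c : R K V)) *
      ((((h.ee a : ℤˣ) : ℤ) : K) • (L a : R K V)))) := adj_smul h.tau (adj_mul (h.ee_adj a) (h.ee_adj c)) t
  have h3 := h.ee_adj (a * c)
  rw [h1] at h3
  have h4 := H886.FC.adj_unique b h3 h2
  rw [h.chi_eq a c] at h4
  have h6 : (t * (((h.ee (a * c) : ℤˣ) : ℤ) * ((h.chi a c : ℤˣ) : ℤ) - ((h.ee a : ℤˣ) : ℤ) * ((h.ee c : ℤˣ) : ℤ) : K)) •
      ((L c : R K V) * L a) = 0 := by
    rw [smul_mul_smul_comm] at h4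
    simp only [smul_smul] at h4
    rw [← sub_eq_zero, ← sub_smul] at h4
    rw [← h4]
    congr 1
    ring
  have h7 : (L c : R K V) * L a ≠ 0 := by
    rw [← Units.val_mul]
    exact Units.ne_zero _
  have h8 := ((mul_eq_zero.1 ((smul_eq_zero.1 h6).resolve_right h7)).resolve_left ht)
  have h9 : (((h.chi a c : ℤˣ) : ℤ) : K) * (((h.chi a c : ℤˣ) : ℤ) : K) = 1 := by
    rcases Int.units_eq_one_or (h.chi a c) with h | h <;> rw [h] <;> simp
  push_cast
  linear_combination (((h.chi a c : ℤˣ) : ℤ) : K) * h8 - (((h.ee (a * c) : ℤˣ) : ℤ) : K) * h9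

theorem exists_chi (a : A) (ha : a ≠ 1) : ∃ c, h.chi a c = -1 := by
  by_contra hne
  push Not at hne
  apply ha
  have h1 : ∀ Y : R K V, Y * (L a : R K V) = (L a : R K V) * Y := by
    intro Y
    have hY : Y ∈ Submodule.span K (Set.range fun a => (L a : R K V)) := by
      rw [h.span]; trivial
    induction hY using Submodule.span_induction with
    | mem x hx =>
      obtain ⟨c, rfl⟩ := hx
      have h2 := h.chi_eq a c
      rw [(Int.units_eq_one_or _).resolve_right (hne c)] at h2
      simpa using h2.symm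
    | zero => rw [zero_mul, mul_zero]
    | add x y _ _ hx hy => rw [add_mul, mul_add, hx, hy]
    | smul t x _ hx => rw [smul_mul_assoc, mul_smul_comm, hx]
  obtain ⟨c, hc⟩ := center_smul _ h1
  have h2 : H198.FC.cj K V (L a) = H198.FC.cj K V 1 := cj_smul (c := c) (by rw [hc, Units.val_one])
  rw [h.cj, map_one] at h2
  exact Subtype.ext h2

/-! ### counting -/

theorem indep [Fintype A] : LinearIndependent K (fun a : A => (L a : R K V)) := by
  apply linearIndependent_of_top_le_span_of_card_eq_finrank (le_of_eq h.span.symm)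
  rw [← Nat.card_eq_fintype_card, h.card, Module.finrank_linearMap, h.fin]

theorem B_swap (v w : V) : b.B v w = - b.B w v := by
  have h1 := h.alt (v + w)
  rw [b.add_left, b.add_right, b.add_right, h.alt, h.alt, zero_add, add_zero] at h1
  exact eq_neg_of_add_eq_zero_left h1

theorem B_sum_right (v : V) {ι : Type*} (s : Finset ι) (w : ι → V) :
    b.B v (∑ i ∈ s, w i) = ∑ i ∈ s, b.B v (w i) := by
  classical
  induction s using Finset.induction_on with
  | empty => rw [Finset.sum_empty, Finset.sum_empty, H886.FC.B_zero_right]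
  | insert a s ha ih => rw [Finset.sum_insert ha, Finset.sum_insert ha, b.add_right, ih]

/-- `X = 0` if all `b(X eᵢ, eⱼ) = 0` -/
theorem eq_zero_of (e : Basis (Fin 4) K V) {X : R K V} (hX : ∀ i j, b.B (X (e i)) (e j) = 0) : X = 0 := by
  apply e.ext
  intro i
  rw [LinearMap.zero_apply]
  apply b.nondeg
  intro w
  rw [← e.sum_repr w, h.B_sum_right]
  apply Finset.sum_eq_zero
  intro j _
  rw [b.smul_right, hX, mul_zero]

/-- the coordinates -/
noncomputable def psi (_ : Lf b A L) (e : Basis (Fin 4) K V) (I : Finset (Fin 4 × Fin 4)) : R K V →ₗ[K] (I → K) where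
  toFun X p := b.B (X (e p.1.1)) (e p.1.2)
  map_add' X Y := by
    funext p
    change b.B (X _ + Y _) _ = _
    rw [b.add_left]
    rfl
  map_smul' c X := by
    funext p
    change b.B (c • X _) _ = _
    rw [b.smul_left]
    rfl

theorem card_le [Fintype A] (s : ℤˣ) (I : Finset (Fin 4 × Fin 4))
    (hI : ∀ X : R K V, b.Adj X (((s : ℤ) : K) • X) → ∀ e : Basis (Fin 4) K V,
      (∀ p ∈ I, b.B (X (e p.1)) (e p.2) = 0) → X = 0) :
    (Finset.univ.filter fun a : A => h.ee a = s).card ≤ I.card := by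
  classical
  let e := Module.finBasisOfFinrankEq K V h.fin
  let v : {a : A // h.ee a = s} → R K V := fun a => (L a.1 : R K V)
  have hv : LinearIndependent K v := h.indep.comp (fun a : {a : A // h.ee a = s} => a.1) Subtype.val_injective
  have hadj : ∀ X ∈ Submodule.span K (Set.range v), b.Adj X (((s : ℤ) : K) • X) := by
    intro X hX
    induction hX using Submodule.span_induction with
    | mem x hx =>
      obtain ⟨a, rfl⟩ := hx
      have h1 := h.ee_adj a.1
      rw [a.2] at h1
      exact h1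
    | zero =>
      intro v w
      rw [smul_zero]
      change b.B 0 w = b.B v 0
      rw [H886.FC.B_zero_left, H886.FC.B_zero_right]
    | add x y _ _ hx hy =>
      rw [smul_add]
      exact adj_add hx hy
    | smul t x _ hx =>
      rw [smul_comm]
      exact adj_smul h.tau hx t
  have hdis : Disjoint (Submodule.span K (Set.range v)) (LinearMap.ker (h.psi e I)) := by
    rw [Submodule.disjoint_def]
    intro X hX hX'
    apply hI X (hadj X hX) e
    intro p hp
    have h1 := congrFun (LinearMap.mem_ker.1 hX') ⟨p, hp⟩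
    exact h1
  have h2 := (hv.map hdis).fintype_card_le_finrank
  rw [Module.finrank_pi, Fintype.card_coe, Fintype.card_subtype] at h2
  exact h2

theorem card_six [Fintype A] : (Finset.univ.filter fun a : A => h.ee a = 1).card = 6 := by
  classical
  have h1 := h.card_le 1 (Finset.univ.filter fun p : Fin 4 × Fin 4 => p.1 < p.2) (by
    intro X hX e hp
    have hX' : ∀ v w, b.B (X v) w = - b.B (X w) v := by
      intro v w
      rw [hX w v, h.B_swap w]
      simp
    apply h.eq_zero_of e
    intro i j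
    rcases lt_trichotomy i j with hij | hij | hij
    · exact hp (i, j) (Finset.mem_filter.2 ⟨Finset.mem_univ _, hij⟩)
    · subst hij
      have h2 := hX' (e i) (e i)
      by_contra hne
      exact h.two (by
        have h3 : (2 : K) * b.B (X (e i)) (e i) = 0 := by
          rw [two_mul]
          nth_rw 1 [h2]
          rw [neg_add_cancel]
        exact (mul_eq_zero.1 h3).resolve_right hne)
    · rw [hX', hp (j, i) (Finset.mem_filter.2 ⟨Finset.mem_univ _, hij⟩), neg_zero])
  have h2 := h.card_le (-1) (Finset.univ.filter fun p : Fin 4 × Fin 4 => p.1 ≤ p.2) (by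
    intro X hX e hp
    have hX' : ∀ v w, b.B (X v) w = b.B (X w) v := by
      intro v w
      rw [hX w v, h.B_swap w]
      simp only [Units.val_neg, Units.val_one, Int.cast_neg, Int.cast_one, neg_smul, one_smul, LinearMap.neg_apply]
      have h3 : -X v = (-1 : K) • X v := by rw [neg_smul, one_smul]
      rw [h3, b.smul_left]
      ring
    apply h.eq_zero_of e
    intro i j
    rcases le_total i j with hij | hij
    · exact hp (i, j) (Finset.mem_filter.2 ⟨Finset.mem_univ _, hij⟩)
    · rw [hX', hp (j, i) (Finset.mem_filter.2 ⟨Finset.mem_univ _, hij⟩)])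
  have h3 : (Finset.univ.filter fun p : Fin 4 × Fin 4 => p.1 < p.2).card = 6 := by decide
  have h4 : (Finset.univ.filter fun p : Fin 4 × Fin 4 => p.1 ≤ p.2).card = 10 := by decide
  rw [h3] at h1
  rw [h4] at h2
  have h5 := Finset.card_filter_add_card_filter_not (s := (Finset.univ : Finset A)) (fun a => h.ee a = 1)
  have h6 : (Finset.univ.filter fun a : A => ¬ h.ee a = 1) = Finset.univ.filter fun a : A => h.ee a = -1 := by
    ext a
    simp only [Finset.mem_filter, Finset.mem_univ, true_and]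
    constructor
    · exact fun h1 => (Int.units_eq_one_or _).resolve_left h1
    · intro h1
      rw [h1]
      decide
  rw [h6, Finset.card_univ, ← Nat.card_eq_fintype_card, h.card] at h5
  omega

end Lf

/-- the group -/
structure Gp (b : Cl K V) (A S : Subgroup (Equiv.Perm (R K V))) : Prop where
  rb : S ≤ RB b
  le : A ≤ S
  sol : Group.IsSolvable S
  norm : ∀ g ∈ S, ∀ f ∈ A, g * f * g⁻¹ ∈ A
  min : ∀ B : Subgroup (Equiv.Perm (R K V)), B ≤ A → (∀ g ∈ S, ∀ f ∈ B, g * f * g⁻¹ ∈ B) → B = ⊥ ∨ B = A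

/-- conjugation -/
def Gp.cjA {b : Cl K V} {A S : Subgroup (Equiv.Perm (R K V))} (hS : Gp b A S) (f : S) (a : A) : A :=
  ⟨f * a * (f : Equiv.Perm (R K V))⁻¹, hS.norm f f.2 a a.2⟩

namespace Lf

variable [Nontrivial V] [Finite K] [FiniteDimensional K V] {b : Cl K V} {A : Subgroup (Equiv.Perm (R K V))}
  {L : A → (R K V)ˣ} (h : Lf b A L) {S : Subgroup (Equiv.Perm (R K V))} (hS : Gp b A S)
include h

theorem map_L (f : S) (a : A) : ∃ t : K, t ≠ 0 ∧ (f : Equiv.Perm (R K V)) (L a : R K V) = t • (L (hS.cjA f a) : R K V) := by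
  have h1 : H198.FC.cj K V (mapU (hS.rb f.2).1 (L a)) = H198.FC.cj K V (L (hS.cjA f a)) := by
    rw [cj_mapU, h.cj, h.cj]
    rfl
  obtain ⟨t, ht, h2⟩ := cj_eq h1
  exact ⟨t, ht, h2⟩

theorem map_sgn {f : Equiv.Perm (R K V)} (hf : f ∈ RP K V) (u : ℤˣ) (X : R K V) :
    f (((u : ℤ) : K) • X) = ((u : ℤ) : K) • f X := by
  rw [Int.cast_smul_eq_zsmul, Int.cast_smul_eq_zsmul]
  exact map_zsmul (AddMonoidHom.mk' f hf.1) (u : ℤ) X

theorem ee_cj (f : S) (a : A) : h.ee (hS.cjA f a) = h.ee a := by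
  obtain ⟨t, ht, h1⟩ := h.map_L hS f a
  have h2 := ((hS.rb f.2).2 _ _).1 (h.ee_adj a)
  rw [h.map_sgn (hS.rb f.2).1, h1] at h2
  have h3 := adj_smul h.tau h2 t⁻¹
  have e1 : ∀ X : R K V, t⁻¹ • t • X = X := fun X => by rw [smul_smul, inv_mul_cancel₀ ht, one_smul]
  rw [e1, smul_comm t⁻¹, e1] at h3
  apply h.cast_inj
  have h4 := H886.FC.adj_unique b (h.ee_adj (hS.cjA f a)) h3
  have h5 : ((((h.ee (hS.cjA f a) : ℤˣ) : ℤ) : K) - (((h.ee a : ℤˣ) : ℤ) : K)) • (L (hS.cjA f a) : R K V) = 0 := by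
    rw [sub_smul, h4, sub_self]
  exact sub_eq_zero.1 ((smul_eq_zero.1 h5).resolve_right (Units.ne_zero _))

/-- the five points -/
def Om : Type _ := {a : A // a ≠ 1 ∧ h.ee a = 1}

theorem finA : Finite A := Nat.finite_of_card_ne_zero (by rw [h.card]; decide)

theorem anti {x y : h.Om} (hxy : x ≠ y) : h.chi x.1 y.1 = -1 := by
  classical
  have := h.finA
  have : Fintype A := Fintype.ofFinite A
  let _ : CommGroup A := { (inferInstance : Group A) with mul_comm := h.comm }
  exact count16 (by rw [← Nat.card_eq_fintype_card, h.card]) h.ee h.chi h.ee_mul h.chi_mul h.sq h.exists_chi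
    (by convert h.card_six) h.chi_self x.1 y.1 x.2.1 y.2.1 (fun he => hxy (Subtype.ext he)) x.2.2 y.2.2

theorem card_om : Nat.card h.Om = 5 := by
  classical
  have := h.finA
  have : Fintype A := Fintype.ofFinite A
  have h1 := h.card_six
  have he1 : h.ee 1 = 1 := by
    have h2 := h.ee_mul 1 1
    rw [mul_one, h.chi_self, mul_one] at h2
    exact left_eq_mul.1 h2
  have h2 : (Finset.univ.filter fun a : A => a ≠ 1 ∧ h.ee a = 1) = (Finset.univ.filter fun a : A => h.ee a = 1).erase 1 := by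
    ext a
    simp only [Finset.mem_filter, Finset.mem_univ, true_and, Finset.mem_erase]
  unfold Om
  rw [Nat.card_eq_fintype_card, Fintype.card_subtype, h2, Finset.card_erase_of_mem (by simp [he1]), h1]

/-- the action -/
def act : S →* Equiv.Perm h.Om where
  toFun f :=
    { toFun := fun x => ⟨hS.cjA f x.1, by
        refine ⟨?_, by rw [h.ee_cj hS, x.2.2]⟩
        intro h1
        apply x.2.1
        have h2 := congrArg Subtype.val h1
        change (f : Equiv.Perm (R K V)) * (x.1 : Equiv.Perm (R K V)) * (f : Equiv.Perm (R K V))⁻¹ = 1 at h2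
        rw [mul_inv_eq_one] at h2
        exact Subtype.ext (mul_eq_left.1 h2)⟩
      invFun := fun x => ⟨hS.cjA f⁻¹ x.1, by
        refine ⟨?_, by rw [h.ee_cj hS, x.2.2]⟩
        intro h1
        apply x.2.1
        have h2 := congrArg Subtype.val h1
        change (f⁻¹ : Equiv.Perm (R K V)) * (x.1 : Equiv.Perm (R K V)) * (f⁻¹ : Equiv.Perm (R K V))⁻¹ = 1 at h2
        rw [mul_inv_eq_one] at h2
        exact Subtype.ext (mul_eq_left.1 h2)⟩
      left_inv := fun x => by
        apply Subtype.ext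
        apply Subtype.ext
        change (f : Equiv.Perm (R K V))⁻¹ * ((f : Equiv.Perm (R K V)) * x.1 * (f : Equiv.Perm (R K V))⁻¹) *
          ((f : Equiv.Perm (R K V))⁻¹)⁻¹ = x.1
        group
      right_inv := fun x => by
        apply Subtype.ext
        apply Subtype.ext
        change (f : Equiv.Perm (R K V)) * ((f : Equiv.Perm (R K V))⁻¹ * x.1 * ((f : Equiv.Perm (R K V))⁻¹)⁻¹) *
          (f : Equiv.Perm (R K V))⁻¹ = x.1
        group }
  map_one' := by
    apply Equiv.ext
    intro x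
    apply Subtype.ext
    apply Subtype.ext
    change (1 : Equiv.Perm (R K V)) * (x.1 : Equiv.Perm (R K V)) * (1 : Equiv.Perm (R K V))⁻¹ = x.1
    group
  map_mul' f g := by
    apply Equiv.ext
    intro x
    apply Subtype.ext
    apply Subtype.ext
    change ((f : Equiv.Perm (R K V)) * g) * x.1 * ((f : Equiv.Perm (R K V)) * g)⁻¹ =
      f * (g * x.1 * (g : Equiv.Perm (R K V))⁻¹) * (f : Equiv.Perm (R K V))⁻¹
    group

theorem act_val (f : S) (x : h.Om) : (h.act hS f x).1 = hS.cjA f x.1 := rfl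

/-- fixed elements of `A` are trivial -/
theorem eq_one_of_fix (a : A) (ha : ∀ f : S, hS.cjA f a = a) : a = 1 := by
  have h1 := hS.min (Subgroup.zpowers (a : Equiv.Perm (R K V))) (by
    rw [Subgroup.zpowers_le]
    exact a.2) (by
    rintro g hg _ ⟨n, rfl⟩
    have h2 : g * (a : Equiv.Perm (R K V)) * g⁻¹ = a := congrArg Subtype.val (ha ⟨g, hg⟩)
    refine ⟨n, ?_⟩
    change _ = g * (a : Equiv.Perm (R K V)) ^ n * g⁻¹
    rw [← conj_zpow, h2])
  rcases h1 with h1 | h1
  · rw [Subgroup.zpowers_eq_bot] at h1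
    exact Subtype.ext h1
  · exfalso
    have h2 := h.card
    have h3 : orderOf (a : Equiv.Perm (R K V)) ≤ 2 := by
      apply orderOf_le_of_pow_eq_one (by norm_num)
      rw [_root_.pow_two]
      exact congrArg Subtype.val (h.sq a)
    have h4 : Nat.card (Subgroup.zpowers (a : Equiv.Perm (R K V))) = 16 := by rw [h1]; exact h2
    rw [Nat.card_zpowers] at h4
    omega

/-- `A` as a commutative group -/
@[reducible] def cg : CommGroup A := { (inferInstance : Group A) with mul_comm := h.comm }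

theorem chi_one (a : A) : h.chi a 1 = 1 := by
  have h1 := h.chi_mul a 1 1
  rw [mul_one] at h1
  exact left_eq_mul.1 h1

theorem chi_prod (a : A) (T : Finset h.Om) :
    h.chi a (@Finset.prod _ _ h.cg.toCommMonoid T (fun x => x.1)) = ∏ x ∈ T, h.chi a x.1 := by
  classical
  let _ := h.cg
  induction T using Finset.induction_on with
  | empty => rw [Finset.prod_empty, Finset.prod_empty, h.chi_one]
  | insert x T hx ih =>
    rw [Finset.prod_insert hx, Finset.prod_insert hx, ← ih]
    exact h.chi_mul _ _ _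

theorem prod_one (T : Finset h.Om) (hT : ∀ (f : S) x, x ∈ T → h.act hS f x ∈ T) :
    @Finset.prod _ _ h.cg.toCommMonoid T (fun x => x.1) = 1 := by
  classical
  let _ := h.cg
  apply h.eq_one_of_fix hS
  intro f
  have h1 : hS.cjA f (∏ x ∈ T, x.1) = ∏ x ∈ T, hS.cjA f x.1 := by
    let F : A →* A := MonoidHom.mk' (hS.cjA f) (by
      intro a c
      apply Subtype.ext
      change (f : Equiv.Perm (R K V)) * (a * c) * (f : Equiv.Perm (R K V))⁻¹ =
        (f * a * (f : Equiv.Perm (R K V))⁻¹) * (f * c * (f : Equiv.Perm (R K V))⁻¹)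
      group)
    exact map_prod F (fun x : h.Om => x.1) T
  rw [h1]
  refine Finset.prod_bij (fun x _ => h.act hS f x) (fun x hx => hT f x hx) ?_ ?_ ?_
  · intro x _ y _ hxy
    exact (h.act hS f).injective hxy
  · intro y hy
    refine ⟨(h.act hS f).symm y, ?_, (h.act hS f).apply_symm_apply y⟩
    have h2 : h.act hS f⁻¹ y = (h.act hS f).symm y := by rw [map_inv]; rfl
    rw [← h2]
    exact hT f⁻¹ y hy
  · intro x _
    rfl

theorem finOm : Finite h.Om := Nat.finite_of_card_ne_zero (by rw [h.card_om]; decide)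

/-- an invariant set is empty or everything -/
theorem inv_set (T : Finset h.Om) (hT : ∀ (f : S) x, x ∈ T → h.act hS f x ∈ T) (hne : T.Nonempty) (y : h.Om) :
    y ∈ T := by
  classical
  by_contra hy
  have h1 := h.prod_one hS T hT
  obtain ⟨x, hx⟩ := hne
  have h2 : ∀ a : A, ∏ x ∈ T, h.chi a x.1 = 1 := by
    intro a
    rw [← h.chi_prod, h1, h.chi_one]
  have h3 := h2 y.1
  rw [Finset.prod_congr rfl (fun z hz => h.anti (x := y) (y := z) (fun he => hy (he ▸ hz))), Finset.prod_const] at h3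
  have h4 := h2 x.1
  rw [← Finset.mul_prod_erase T _ hx, h.chi_self, one_mul,
    Finset.prod_congr rfl (fun z hz => h.anti (x := x) (y := z) (fun he => Finset.ne_of_mem_erase hz he.symm)),
    Finset.prod_const, Finset.card_erase_of_mem hx] at h4
  have h5 : 0 < T.card := Finset.card_pos.2 ⟨x, hx⟩
  obtain ⟨k, hk⟩ : ∃ k, T.card = k + 1 := ⟨T.card - 1, by omega⟩
  rw [hk, Nat.add_sub_cancel] at h4
  rw [hk, pow_succ, h4] at h3
  revert h3
  decide

theorem exists_trans (x y : h.Om) : ∃ f : S, h.act hS f x = y := by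
  classical
  have := h.finOm
  have : Fintype h.Om := Fintype.ofFinite _
  have h1 := h.inv_set hS (Finset.univ.filter fun y => ∃ f : S, h.act hS f x = y) (by
    intro f z hz
    rw [Finset.mem_filter] at hz ⊢
    obtain ⟨-, g, rfl⟩ := hz
    exact ⟨Finset.mem_univ _, f * g, by rw [map_mul]; rfl⟩) ⟨x, Finset.mem_filter.2 ⟨Finset.mem_univ _, 1, by rw [map_one]; rfl⟩⟩ y
  exact (Finset.mem_filter.1 h1).2

include hS in
theorem prod_univ [Fintype h.Om] : @Finset.prod _ _ h.cg.toCommMonoid Finset.univ (fun x : h.Om => x.1) = 1 :=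
  h.prod_one hS _ fun _ _ _ => Finset.mem_univ _

include hS in
theorem prod_five (σ : Fin 5 ≃ h.Om) : (σ 0).1 * (σ 1).1 * (σ 2).1 * (σ 3).1 * (σ 4).1 = 1 := by
  classical
  have := h.finOm
  have : Fintype h.Om := Fintype.ofFinite _
  let _ := h.cg
  have h1 := h.prod_univ hS
  rw [← Equiv.prod_comp σ, Fin.prod_univ_five] at h1
  exact h1

include hS in
theorem prod_scalar (σ : Fin 5 ≃ h.Om) : ∃ s : K, s ≠ 0 ∧
    (L (σ 0).1 : R K V) * L (σ 1).1 * L (σ 2).1 * L (σ 3).1 * L (σ 4).1 = s • (1 : R K V) := by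
  have h1 : H198.FC.cj K V (L (σ 0).1 * L (σ 1).1 * L (σ 2).1 * L (σ 3).1 * L (σ 4).1) = H198.FC.cj K V 1 := by
    have h2 := congrArg Subtype.val (h.prod_five hS σ)
    rw [map_mul, map_mul, map_mul, map_mul, h.cj, h.cj, h.cj, h.cj, h.cj]
    exact h2.trans (map_one (H198.FC.cj K V)).symm
  obtain ⟨s, hs, h2⟩ := cj_eq h1
  exact ⟨s, hs, h2⟩

theorem sa (x : h.Om) : b.Adj (L x.1 : R K V) (L x.1 : R K V) := by
  have h1 := h.ee_adj x.1
  rw [x.2.2] at h1
  simpa using h1

/-- the product of the squares is a square -/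
theorem prod_sq (σ : Fin 5 ≃ h.Om) (c : A → K) (hc : ∀ a, (L a : R K V) * L a = c a • (1 : R K V)) {s : K}
    (hs : (L (σ 0).1 : R K V) * L (σ 1).1 * L (σ 2).1 * L (σ 3).1 * L (σ 4).1 = s • (1 : R K V)) :
    s * s = c (σ 0).1 * c (σ 1).1 * c (σ 2).1 * c (σ 3).1 * c (σ 4).1 := by
  have h1 := adj_mul (adj_mul (adj_mul (adj_mul (h.sa (σ 0)) (h.sa (σ 1))) (h.sa (σ 2))) (h.sa (σ 3))) (h.sa (σ 4))
  rw [hs] at h1
  have h2 := H886.FC.adj_unique b h1 (adj_smul h.tau adj_one s)
  have h3 : (L (σ 0).1 : R K V) * L (σ 1).1 * L (σ 2).1 * L (σ 3).1 * L (σ 4).1 *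
      ((L (σ 4).1 : R K V) * (L (σ 3).1 * (L (σ 2).1 * (L (σ 1).1 * L (σ 0).1)))) =
      (c (σ 0).1 * c (σ 1).1 * c (σ 2).1 * c (σ 3).1 * c (σ 4).1) • (1 : R K V) := by
    calc _ = (L (σ 0).1 : R K V) * (L (σ 1).1 * (L (σ 2).1 * (L (σ 3).1 * (L (σ 4).1 * L (σ 4).1) * L (σ 3).1) *
        L (σ 2).1) * L (σ 1).1) * L (σ 0).1 := by noncomm_ring
      _ = _ := by
        rw [hc]
        simp only [mul_smul_comm, smul_mul_assoc, mul_one]
        rw [hc]
        simp only [mul_smul_comm, smul_mul_assoc, mul_one]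
        rw [hc]
        simp only [mul_smul_comm, smul_mul_assoc, mul_one]
        rw [hc]
        simp only [mul_smul_comm, smul_mul_assoc, mul_one]
        rw [hc]
        simp only [smul_smul]
        congr 1
        ring
  rw [h2, hs, smul_mul_smul_comm, one_mul] at h3
  have h4 : (s * s - c (σ 0).1 * c (σ 1).1 * c (σ 2).1 * c (σ 3).1 * c (σ 4).1) • (1 : R K V) = 0 := by
    rw [sub_smul, h3, sub_self]
  exact sub_eq_zero.1 ((smul_eq_zero.1 h4).resolve_right one_ne_zero)

include hS in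
theorem isSquare_all (c : A → K) (hc : ∀ a, (L a : R K V) * L a = c a • (1 : R K V)) (x : h.Om) :
    IsSquare (c x.1) := by
  classical
  have := h.finOm
  have : Fintype h.Om := Fintype.ofFinite _
  have : Fintype K := Fintype.ofFinite K
  have hinv : ∀ (f : S) (x : h.Om), IsSquare (c x.1) → IsSquare (c (h.act hS f x).1) := by
    rintro f x ⟨t, ht⟩
    have hfP := (hS.rb f.2).1
    obtain ⟨d, hd, h1⟩ := h.map_L hS f x.1
    obtain ⟨t', ht'⟩ := exists_center hfP t
    have h2 : (f : Equiv.Perm (R K V)) ((L x.1 : R K V) * L x.1) = (t' * t') • (1 : R K V) := by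
      rw [hc, ht]
      have h3 : (t * t) • (1 : R K V) = (t • (1 : R K V)) * (t • (1 : R K V)) := by
        rw [smul_mul_smul_comm, one_mul]
      rw [h3, hfP.2, ht', smul_mul_smul_comm, one_mul]
    rw [hfP.2, h1, smul_mul_smul_comm, hc, smul_smul] at h2
    have h4 : (d * d * c (hS.cjA f x.1) - t' * t') • (1 : R K V) = 0 := by
      rw [sub_smul, h2, sub_self]
    have h5 := sub_eq_zero.1 ((smul_eq_zero.1 h4).resolve_right one_ne_zero)
    refine ⟨t' / d, ?_⟩
    rw [h.act_val]
    field_simp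
    linear_combination h5
  by_cases hne : ∃ y : h.Om, IsSquare (c y.1)
  · obtain ⟨y, hy⟩ := hne
    exact (Finset.mem_filter.1 (h.inv_set hS (Finset.univ.filter fun x : h.Om => IsSquare (c x.1)) (by
      intro f z hz
      rw [Finset.mem_filter] at hz ⊢
      exact ⟨Finset.mem_univ _, hinv f z hz.2⟩) ⟨y, Finset.mem_filter.2 ⟨Finset.mem_univ _, hy⟩⟩ x)).2
  · exfalso
    push Not at hne
    obtain ⟨σ⟩ : Nonempty (Fin 5 ≃ h.Om) := by
      have h1 := h.card_om
      rw [Nat.card_eq_fintype_card] at h1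
      exact ⟨(Fintype.equivFinOfCardEq h1).symm⟩
    obtain ⟨s, hs, h1⟩ := h.prod_scalar hS σ
    have h2 := h.prod_sq σ c hc h1
    have h3 := congrArg (quadraticChar K) h2
    simp only [map_mul] at h3
    have h4 : ∀ i, quadraticChar K (c (σ i).1) = -1 := fun i => quadraticChar_neg_one_iff_not_isSquare.2 (hne _)
    rw [h4, h4, h4, h4, h4] at h3
    have h5 : quadraticChar K s * quadraticChar K s = 1 := by
      rw [← _root_.pow_two]
      exact quadraticChar_sq_one hs
    rw [h5] at h3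
    norm_num at h3

end Lf

end Cfsg.Agent.H99.FC

namespace Cfsg.Agent.H99.FC

open Module Cfsg.Agent.H198.FC

universe u v

variable {K : Type u} [Field K] {V : Type v} [AddCommGroup V] [Module K V]

theorem five_of_lf [Nontrivial V] [Finite K] [FiniteDimensional K V] {b : Cl K V} {A : Subgroup (Equiv.Perm (R K V))}
    {L : A → (R K V)ˣ} (h : Lf b A L) {S : Subgroup (Equiv.Perm (R K V))} (hS : Gp b A S) : FiveB b S := by
  classical
  have := h.finOm
  have : Fintype h.Om := Fintype.ofFinite _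
  have := h.finA
  have : Fintype A := Fintype.ofFinite _
  obtain ⟨σ⟩ : Nonempty (Fin 5 ≃ h.Om) := by
    have h1 := h.card_om
    rw [Nat.card_eq_fintype_card] at h1
    exact ⟨(Fintype.equivFinOfCardEq h1).symm⟩
  have hsq : ∀ a, ∃ d : K, d ≠ 0 ∧ (L a : R K V) * L a = d • (1 : R K V) := fun a => sq_smul (h.pow_two a)
  choose c hc0 hc using hsq
  have hsqr : ∀ i, ∃ t : K, c (σ i).1 = t * t := fun i => h.isSquare_all hS c hc (σ i)
  choose t ht using hsqr
  have ht0 : ∀ i, t i ≠ 0 := fun i h0 => hc0 (σ i).1 (by rw [ht, h0, mul_zero])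
  obtain ⟨s, hs0, hs⟩ := h.prod_scalar hS σ
  have hss := h.prod_sq σ c hc hs
  let Z : Fin 5 → R K V := fun i => (t i)⁻¹ • (L (σ i).1 : R K V)
  have hZdef : ∀ i, Z i = (t i)⁻¹ • (L (σ i).1 : R K V) := fun i => rfl
  have hLZ : ∀ i, (L (σ i).1 : R K V) = t i • Z i := by
    intro i
    rw [hZdef, smul_smul, mul_inv_cancel₀ (ht0 i), one_smul]
  have hZsq : ∀ i, Z i * Z i = 1 := by
    intro i
    rw [hZdef, smul_mul_smul_comm, hc, smul_smul, ht]
    have : (t i)⁻¹ * (t i)⁻¹ * (t i * t i) = 1 := by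
      have := ht0 i
      field_simp
    rw [this, one_smul]
  have hZ0 : ∀ i, Z i ≠ 0 := by
    intro i h0
    have := hZsq i
    rw [h0, mul_zero] at this
    exact zero_ne_one this
  -- the action on the frame
  let ρ : S →* Equiv.Perm (Fin 5) := (σ.symm.permCongrHom.toMonoidHom).comp (h.act hS)
  have hρ : ∀ (f : S) (i : Fin 5), σ (ρ f i) = h.act hS f (σ i) := by
    intro f i
    change σ (σ.symm (h.act hS f (σ.symm.symm i))) = _
    rw [Equiv.apply_symm_apply, Equiv.symm_symm]
  have hact : ∀ (f : S) (i : Fin 5), (f : Equiv.Perm (R K V)) (Z i) = Z (ρ f i) ∨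
      (f : Equiv.Perm (R K V)) (Z i) = -Z (ρ f i) := by
    intro f i
    have hfP := (hS.rb f.2).1
    obtain ⟨d, hd, h1⟩ := h.map_L hS f (σ i).1
    obtain ⟨t', ht'⟩ := exists_center hfP (t i)⁻¹
    have h2 : (f : Equiv.Perm (R K V)) (Z i) = (t' * (d * t (ρ f i))) • Z (ρ f i) := by
      rw [hZdef i, map_smul' hfP ht', h1, ← h.act_val hS f (σ i), ← hρ, hLZ, smul_smul, smul_smul, mul_assoc]
    have h3 : (f : Equiv.Perm (R K V)) (Z i * Z i) = 1 := by rw [hZsq, map_one' hfP]
    rw [hfP.2, h2, smul_mul_smul_comm, hZsq] at h3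
    have h4 : (t' * (d * t (ρ f i)) * (t' * (d * t (ρ f i))) - 1) • (1 : R K V) = 0 := by
      rw [sub_smul, h3, one_smul, sub_self]
    have h5 := (smul_eq_zero.1 h4).resolve_right one_ne_zero
    have h6 : (t' * (d * t (ρ f i)) - 1) * (t' * (d * t (ρ f i)) + 1) = 0 := by linear_combination h5
    rcases mul_eq_zero.1 h6 with h7 | h7
    · left
      rw [h2, sub_eq_zero.1 h7, one_smul]
    · right
      rw [h2, eq_neg_of_add_eq_zero_left h7, neg_smul, one_smul]
  have hind : LinearIndependent K Z := by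
    have h1 : LinearIndependent K (fun i : Fin 5 => (L (σ i).1 : R K V)) :=
      h.indep.comp (fun i : Fin 5 => (σ i).1) (fun i j hij => σ.injective (Subtype.ext hij))
    have h2 := h1.units_smul (fun i => (Units.mk0 (t i) (ht0 i))⁻¹)
    have h3 : Z = (fun i => (Units.mk0 (t i) (ht0 i))⁻¹) • fun i : Fin 5 => (L (σ i).1 : R K V) := by
      funext i
      rfl
    rw [h3]
    exact h2
  have hprod : Z 0 * Z 1 * Z 2 * Z 3 * Z 4 =
      ((t 0)⁻¹ * (t 1)⁻¹ * (t 2)⁻¹ * (t 3)⁻¹ * (t 4)⁻¹ * s) • (1 : R K V) := by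
    simp only [hZdef, smul_mul_smul_comm]
    rw [hs, smul_smul]
  have hF : Frame b Z := by
    refine ⟨h.two, hZsq, ?_, ?_, hind, ?_, ?_⟩
    · intro i j hij
      rw [hZdef, hZdef, smul_mul_smul_comm, smul_mul_smul_comm, h.chi_eq, h.anti (x := σ i) (y := σ j)
        (fun he => hij (σ.injective he)), mul_comm (t j)⁻¹]
      simp
    · intro i
      exact adj_smul h.tau (h.sa (σ i)) _
    · rw [hprod]
      have h1 : ((t 0)⁻¹ * (t 1)⁻¹ * (t 2)⁻¹ * (t 3)⁻¹ * (t 4)⁻¹ * s) *
          ((t 0)⁻¹ * (t 1)⁻¹ * (t 2)⁻¹ * (t 3)⁻¹ * (t 4)⁻¹ * s) = 1 := by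
        have e : ((t 0)⁻¹ * (t 1)⁻¹ * (t 2)⁻¹ * (t 3)⁻¹ * (t 4)⁻¹ * s) *
          ((t 0)⁻¹ * (t 1)⁻¹ * (t 2)⁻¹ * (t 3)⁻¹ * (t 4)⁻¹ * s) = (t 0 * t 0)⁻¹ * (t 1 * t 1)⁻¹ * (t 2 * t 2)⁻¹ *
            (t 3 * t 3)⁻¹ * (t 4 * t 4)⁻¹ * (s * s) := by
          simp only [mul_inv]
          ring
        rw [e, hss, ht, ht, ht, ht, ht]
        have := ht0 0
        have := ht0 1
        have := ht0 2
        have := ht0 3
        have := ht0 4
        field_simp
      generalize (t 0)⁻¹ * (t 1)⁻¹ * (t 2)⁻¹ * (t 3)⁻¹ * (t 4)⁻¹ * s = w at h1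
      have h2 : (w - 1) * (w + 1) = 0 := by linear_combination h1
      rcases mul_eq_zero.1 h2 with h3 | h3
      · left
        rw [sub_eq_zero.1 h3, one_smul]
      · right
        rw [eq_neg_of_add_eq_zero_left h3, neg_smul, one_smul]
    · -- generation
      let N : Subgroup (Equiv.Perm (R K V)) :=
        { carrier := {a | a ∈ A ∧ ∀ x : (R K V)ˣ, cj K V x = a → (x : R K V) ∈ Algebra.adjoin K (Set.range Z)}
          one_mem' := ⟨one_mem _, fun x hx => by
            rw [← map_one (cj K V)] at hx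
            obtain ⟨w, -, hw⟩ := cj_eq hx
            rw [hw, Units.val_one]
            exact Subalgebra.smul_mem _ (one_mem _) _⟩
          mul_mem' := by
            rintro a d ⟨ha, ha'⟩ ⟨hd, hd'⟩
            refine ⟨mul_mem ha hd, fun x hx => ?_⟩
            have h1 : cj K V x = cj K V (L ⟨a, ha⟩ * L ⟨d, hd⟩) := by rw [hx, map_mul, h.cj, h.cj]
            obtain ⟨w, -, hw⟩ := cj_eq h1
            rw [hw, Units.val_mul]
            exact Subalgebra.smul_mem _ (mul_mem (ha' _ (h.cj _)) (hd' _ (h.cj _))) _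
          inv_mem' := by
            rintro a ⟨ha, ha'⟩
            have h1 : a⁻¹ = a := by
              rw [inv_eq_iff_mul_eq_one]
              exact congrArg Subtype.val (h.sq ⟨a, ha⟩)
            rw [h1]
            exact ⟨ha, ha'⟩ }
      have hmap : ∀ (g : S) (X : R K V), X ∈ Algebra.adjoin K (Set.range Z) →
          (g : Equiv.Perm (R K V)) X ∈ Algebra.adjoin K (Set.range Z) := by
        intro g X hX
        have hgP := (hS.rb g.2).1
        induction hX using Algebra.adjoin_induction with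
        | mem x hx =>
          obtain ⟨i, rfl⟩ := hx
          rcases hact g i with h1 | h1 <;> rw [h1]
          · exact Algebra.subset_adjoin ⟨_, rfl⟩
          · exact neg_mem (Algebra.subset_adjoin ⟨_, rfl⟩)
        | algebraMap a =>
          rw [Algebra.algebraMap_eq_smul_one]
          obtain ⟨a', ha'⟩ := exists_center hgP a
          rw [ha']
          exact Subalgebra.smul_mem _ (one_mem _) _
        | add x y _ _ hx hy =>
          rw [hgP.1]
          exact add_mem hx hy
        | mul x y _ _ hx hy =>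
          rw [hgP.2]
          exact mul_mem hx hy
      have hN := hS.min N (fun a ha => ha.1) (by
        rintro g hg a ⟨ha, ha'⟩
        refine ⟨hS.norm g hg a ha, fun x hx => ?_⟩
        have hgP := (hS.rb hg).1
        have h1 : cj K V x = cj K V (mapU hgP (L ⟨a, ha⟩)) := by rw [hx, cj_mapU, h.cj]
        obtain ⟨w, -, hw⟩ := cj_eq h1
        rw [hw]
        exact Subalgebra.smul_mem _ (hmap ⟨g, hg⟩ _ (ha' _ (h.cj _))) _)
      have hNe : N = A := by
        refine hN.resolve_left fun hbot => ?_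
        apply (σ 0).2.1
        have h1 : ((σ 0).1 : Equiv.Perm (R K V)) ∈ N := by
          refine ⟨(σ 0).1.2, fun x hx => ?_⟩
          have h2 : cj K V x = cj K V (L (σ 0).1) := by rw [hx, h.cj]
          obtain ⟨w, -, hw⟩ := cj_eq h2
          rw [hw, hLZ]
          exact Subalgebra.smul_mem _ (Subalgebra.smul_mem _ (Algebra.subset_adjoin (Set.mem_range_self 0)) _) _
        rw [hbot, Subgroup.mem_bot] at h1
        exact Subtype.ext h1
      rw [eq_top_iff]
      intro X _
      have hX : X ∈ Submodule.span K (Set.range fun a => (L a : R K V)) := by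
        rw [h.span]; trivial
      have h1 : Submodule.span K (Set.range fun a => (L a : R K V)) ≤
          Subalgebra.toSubmodule (Algebra.adjoin K (Set.range Z)) := by
        rw [Submodule.span_le]
        rintro _ ⟨a, rfl⟩
        have h2 : (a : Equiv.Perm (R K V)) ∈ N := by
          rw [hNe]; exact a.2
        exact h2.2 _ (h.cj a)
      exact h1 hX
  have hρ' : ∀ f ∈ S, ∀ (π : Equiv.Perm (Fin 5)) (ε : Fin 5 → ℤ), (∀ i, ε i = 1 ∨ ε i = -1) →
      (∀ i, f (Z i) = (ε i : K) • Z (π i)) → ∀ hf : f ∈ S, π = ρ ⟨f, hf⟩ := by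
    intro f _ π ε hε hπ hf
    apply Equiv.ext
    intro i
    have h1 := hπ i
    by_contra hne
    have h2 : ∃ e : K, e ≠ 0 ∧ e • Z (ρ ⟨f, hf⟩ i) = (ε i : K) • Z (π i) := by
      rcases hact ⟨f, hf⟩ i with h3 | h3
      · exact ⟨1, one_ne_zero, by rw [one_smul, ← h1]; exact h3.symm⟩
      · exact ⟨-1, neg_ne_zero.2 one_ne_zero, by rw [neg_smul, one_smul, ← h1]; exact h3.symm⟩
    obtain ⟨e, he, h3⟩ := h2
    rw [zz_single, zz_single] at h3
    have h4 := congrFun (zz_inj hind h3) (ρ ⟨f, hf⟩ i)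
    rw [if_pos rfl, if_neg (Ne.symm hne)] at h4
    exact he h4
  refine hF.five h.tau h.fin S (fun f hf => (hS.rb hf).1) ?_ ?_
  · intro f hf
    refine ⟨ρ ⟨f, hf⟩, fun i => if f (Z i) = Z (ρ ⟨f, hf⟩ i) then 1 else -1, fun i => ?_, fun i => ?_⟩
    · change (if f (Z i) = Z (ρ ⟨f, hf⟩ i) then (1 : ℤ) else -1) = 1 ∨ (if f (Z i) = Z (ρ ⟨f, hf⟩ i) then (1 : ℤ) else -1) = -1
      split_ifs
      · left; rfl
      · right; rfl
    · change f (Z i) = ((if f (Z i) = Z (ρ ⟨f, hf⟩ i) then (1 : ℤ) else -1 : ℤ) : K) • Z (ρ ⟨f, hf⟩ i)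
      split_ifs with h1
      · rw [h1]; simp
      · have h2 := (hact ⟨f, hf⟩ i).resolve_left h1
        change f (Z i) = _ at h2
        rw [h2]; simp
  · intro f hf π ε hε hπ i j hij hi hj
    have h1 := hρ' f hf π ε hε hπ hf
    have := hS.sol
    have hsol : Group.IsSolvable ρ.range := Group.isSolvable_of_surjective ρ.rangeRestrict_surjective
    refine perm5 ρ.range hsol ?_ (g := π) (by rw [h1]; exact ⟨_, rfl⟩) hij hi hj
    intro i j
    obtain ⟨g, hg⟩ := h.exists_trans hS (σ i) (σ j)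
    refine ⟨ρ g, ⟨g, rfl⟩, ?_⟩
    apply σ.injective
    rw [hρ, hg]

/-- **StmtBC6 for symplectic forms in dimension 4.** -/
theorem bc6S4 [Finite K] [Module.Finite K V] (b : Cl K V) (hb : b.IsSp) (hn : Module.finrank K V = 4)
    (S : Subgroup (Equiv.Perm (R K V))) (hSB : S ≤ RB b) (hsol : Group.IsSolvable S)
    (A : Subgroup (Equiv.Perm (R K V))) (r a : ℕ) (hC : C6Data S A r a) : FiveB b S := by
  obtain ⟨hr, ha, hra, hAS, hAI, hcard, hex, hcomm, hspan, hnorm, hmin⟩ := hC
  have hr2 : r = 2 := by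
    rw [hn] at hra
    have h1 : r ∣ 2 ^ 2 := by
      have h2 : (2 : ℕ) ^ 2 = r ^ a := by rw [← hra]; norm_num
      rw [h2]
      exact dvd_pow_self r (by omega)
    exact (Nat.prime_dvd_prime_iff_eq hr Nat.prime_two).1 (hr.dvd_of_dvd_pow h1)
  subst hr2
  have ha2 : a = 2 := by
    rw [hn] at hra
    have h1 : 2 ^ a = 2 ^ 2 := by rw [← hra]; norm_num
    exact Nat.pow_right_injective (le_refl 2) h1
  subst ha2
  have : Nontrivial V := Module.nontrivial_of_finrank_pos (R := K) (by rw [hn]; norm_num)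
  have hL : ∀ x : A, ∃ y : (R K V)ˣ, cj K V y = x := fun x => hAI x.2
  choose L hL using hL
  have hLf : Lf b A L :=
    { tau := hb.1
      alt := hb.2
      fin := hn
      cj := hL
      sq := fun x => Subtype.ext (by rw [← pow_two]; exact hex x x.2)
      comm := fun x y => Subtype.ext (hcomm x x.2 y y.2)
      rb := hAS.trans hSB
      span := by
        rw [eq_top_iff, ← hspan, Submodule.span_le]
        rintro X ⟨x, rfl, hx⟩
        obtain ⟨w, -, hw⟩ := cj_eq (x := x) (y := L ⟨_, hx⟩) (by rw [hL])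
        rw [hw]
        exact Submodule.smul_mem _ _ (Submodule.subset_span ⟨_, rfl⟩)
      card := by rw [hcard]; norm_num }
  have hGp : Gp b A S := ⟨hSB, hAS, hsol, hnorm, hmin⟩
  exact five_of_lf hLf hGp

end Cfsg.Agent.H99.FC
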