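import Cfsg.Agent.H198.FC.DefsB

/-!
# S5764, StmtBC6 for `PSp_4`, `q` odd (helper99, task 5397): the final computation

`Z : Fin 5 → R` five pairwise anticommuting self-adjoint involutions with scalar product.  `S` permutes them up to sign
and an element of `S` fixing two of them (up to sign) fixes all of them.  Then
`S ∩ S^{x₁} ∩ S^{x₂} ∩ S^{x₃} = 1` for `x₁ = (Z₀+Z₁+Z₂+Z₃)/2`, `x₂ = (Z₀+Z₁+Z₂+Z₄)/2`, `x₃ = 1 + c Z₀ (Z₁ + α Z₂ + β Z₃)`.
-/

set_option autoImplicit false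
set_option linter.unusedSectionVars false

namespace Cfsg.Agent.H99.FC

open Cfsg.Agent.H198.FC

universe u v

/-! ### integers -/

/-- the matrix of `2 cj(xᵢ)` -/
def aa (i j k : Fin 5) : ℤ := if j = i then (if k = i then -2 else 0) else (if k = i then 0 else if j = k then -1 else 1)

/-- the matrix of `4 cj(xᵢ) f cj(xᵢ)⁻¹` -/
def MM (i : Fin 5) (π : Fin 5 → Fin 5) (ε : Fin 5 → ℤ) (j l : Fin 5) : ℤ :=
  aa i j 0 * ε 0 * aa i (π 0) l + aa i j 1 * ε 1 * aa i (π 1) l + aa i j 2 * ε 2 * aa i (π 2) l +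
    aa i j 3 * ε 3 * aa i (π 3) l + aa i j 4 * ε 4 * aa i (π 4) l

/-- signs -/
def sg (t : Bool) : ℤ := if t then -1 else 1

theorem exists_sg {e : ℤ} (h : e = 1 ∨ e = -1) : ∃ t, e = sg t := by
  rcases h with h | h
  · exact ⟨false, h⟩
  · exact ⟨true, h⟩

theorem sg_prod : ∀ t0 t1 t2 t3 t4 : Bool,
    sg t0 * sg t1 * sg t2 * sg t3 * sg t4 = sg (xor (xor (xor (xor t0 t1) t2) t3) t4) := by
  decide

theorem exists_ne_two : ∀ i m : Fin 5, ∃ l : Fin 5, l ≠ i ∧ l ≠ m := by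
  decide

theorem mm_vals (i : Fin 5) : ∀ t0 t1 t2 t3 t4 : Bool, ∀ j l : Fin 5,
    MM i id ![sg t0, sg t1, sg t2, sg t3, sg t4] j l = 0 ∨
    MM i id ![sg t0, sg t1, sg t2, sg t3, sg t4] j l = 2 ∨ MM i id ![sg t0, sg t1, sg t2, sg t3, sg t4] j l = -2 ∨
    MM i id ![sg t0, sg t1, sg t2, sg t3, sg t4] j l = 4 ∨ MM i id ![sg t0, sg t1, sg t2, sg t3, sg t4] j l = -4 := by
  revert i
  decide +kernel

/-- the row `j` is supported on `m` -/
def Row (i : Fin 5) (ε : Fin 5 → ℤ) (j m : Fin 5) : Prop := ∀ l : Fin 5, l ≠ m → MM i id ε j l = 0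

instance (i : Fin 5) (ε : Fin 5 → ℤ) (j m : Fin 5) : Decidable (Row i ε j m) := by
  unfold Row
  infer_instance

/-- the odd case is impossible -/
theorem comb1 (i : Fin 5) : ∀ t0 t1 t2 t3 t4 : Bool,
    (∀ j : Fin 5, ∃ m : Fin 5, Row i ![sg t0, sg t1, sg t2, sg t3, sg t4] j m) →
    xor (xor (xor (xor t0 t1) t2) t3) t4 = (![t0, t1, t2, t3, t4] : Fin 5 → Bool) i := by
  revert i
  decide +kernel

theorem comb2 : ∀ t0 t1 t2 : Bool, xor (xor t0 t1) t2 = false → (t0 = true ∨ t1 = true ∨ t2 = true) →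
    ∃ a b c : Fin 5, a ≠ b ∧ c ≠ 4 ∧
      (∀ m : Fin 5, Row 4 ![sg t0, sg t1, sg t2, sg false, sg false] a m → m = b) ∧
      (∀ m : Fin 5, Row 4 ![sg t0, sg t1, sg t2, sg false, sg false] b m → m = a) ∧
      (∀ m : Fin 5, Row 3 ![sg t0, sg t1, sg t2, sg false, sg false] a m → m = b) ∧
      (∀ m : Fin 5, Row 3 ![sg t0, sg t1, sg t2, sg false, sg false] b m → m = a) ∧
      (∀ m : Fin 5, Row 3 ![sg t0, sg t1, sg t2, sg false, sg false] c m → m = 4) ∧
      (∀ m : Fin 5, Row 4 ![sg t0, sg t1, sg t2, sg false, sg false] 4 m → m = 4) := by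
  decide +kernel

/-! ### the frame -/

variable {K : Type u} [Field K] {V : Type v} [AddCommGroup V] [Module K V]

/-- orthonormal frame -/
structure Frame (b : Cl K V) (Z : Fin 5 → R K V) : Prop where
  two : (2 : K) ≠ 0
  sq : ∀ i, Z i * Z i = 1
  anti : ∀ i j, i ≠ j → Z i * Z j = -(Z j * Z i)
  adj : ∀ i, b.Adj (Z i) (Z i)
  indep : LinearIndependent K Z
  prod : Z 0 * Z 1 * Z 2 * Z 3 * Z 4 = 1 ∨ Z 0 * Z 1 * Z 2 * Z 3 * Z 4 = -1
  gen : Algebra.adjoin K (Set.range Z) = ⊤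

/-- coordinates -/
def zz (Z : Fin 5 → R K V) (c : Fin 5 → K) : R K V := ∑ i, c i • Z i

theorem zz_inj {Z : Fin 5 → R K V} (h : LinearIndependent K Z) {c d : Fin 5 → K} (hcd : zz Z c = zz Z d) : c = d := by
  have h1 : ∑ i, (c i - d i) • Z i = 0 := by
    simp only [sub_smul, Finset.sum_sub_distrib]
    exact sub_eq_zero.2 hcd
  funext i
  exact sub_eq_zero.1 (Fintype.linearIndependent_iff.1 h _ h1 i)

theorem zz_single (Z : Fin 5 → R K V) (a : K) (m : Fin 5) : a • Z m = zz Z (fun k => if k = m then a else 0) := by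
  unfold zz
  simp

/-! ### adjoints -/

theorem adj_mul {b : Cl K V} {X X' Y Y' : R K V} (h : b.Adj X X') (h' : b.Adj Y Y') : b.Adj (X * Y) (Y' * X') := by
  intro v w
  change b.B (X (Y v)) w = b.B v (Y' (X' w))
  rw [h, h']

theorem adj_add {b : Cl K V} {X X' Y Y' : R K V} (h : b.Adj X X') (h' : b.Adj Y Y') : b.Adj (X + Y) (X' + Y') := by
  intro v w
  change b.B (X v + Y v) w = b.B v (X' w + Y' w)
  rw [b.add_left, b.add_right, h, h']

theorem adj_smul {b : Cl K V} (hτ : ∀ a, b.τ a = a) {X X' : R K V} (h : b.Adj X X') (c : K) :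
    b.Adj (c • X) (c • X') := by
  intro v w
  change b.B (c • X v) w = b.B v (c • X' w)
  rw [b.smul_left, b.smul_right, h, hτ]

theorem adj_neg {b : Cl K V} (hτ : ∀ a, b.τ a = a) {X X' : R K V} (h : b.Adj X X') : b.Adj (-X) (-X') := by
  have h1 := adj_smul hτ h (-1)
  rwa [neg_smul, one_smul, neg_smul, one_smul] at h1

theorem adj_one {b : Cl K V} : b.Adj 1 1 := fun _ _ => rfl

theorem isom_of_adj {b : Cl K V} {X Y : R K V} (h : b.Adj X Y) (hXY : Y * X = 1) : b.Isom X := by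
  intro v w
  rw [h]
  change b.B v ((Y * X) w) = _
  rw [hXY]
  rfl

/-! ### determinants -/

/-- if `u = X - Y` is invertible, `X² = Y² = 1`, then `det X = det (-Y)` -/
theorem det_aux {X Y : R K V} (hX : X * X = 1) (hY : Y * Y = 1) {t : K} (ht : t ≠ 0)
    (h : (X - Y) * (X - Y) = t • (1 : R K V)) : LinearMap.det X = LinearMap.det (-Y) := by
  have h1 : (X - Y) * X = -Y * (X - Y) := by
    rw [sub_mul, hX, neg_mul, mul_sub, hY]
    abel
  have h2 := congrArg LinearMap.det h1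
  rw [map_mul, map_mul] at h2
  have h3 : LinearMap.det (X - Y) ≠ 0 := by
    intro h0
    have h4 := congrArg LinearMap.det h
    rw [map_mul, h0, zero_mul, LinearMap.det_smul, map_one, mul_one] at h4
    exact pow_ne_zero _ ht h4.symm
  rw [mul_comm] at h2
  exact mul_right_cancel₀ h3 h2

theorem det_neg_four (hn : Module.finrank K V = 4) (X : R K V) : LinearMap.det (-X) = LinearMap.det X := by
  have h : -X = (-1 : K) • X := by rw [neg_smul, one_smul]
  rw [h, LinearMap.det_smul, hn]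
  norm_num

namespace Frame

variable {b : Cl K V} {Z : Fin 5 → R K V} (hZ : Frame b Z)
include hZ

theorem ne_zero_four : (4 : K) ≠ 0 := by
  have h : (4 : K) = 2 * 2 := by norm_num
  rw [h]
  exact mul_ne_zero hZ.two hZ.two

/-- `vᵢ` -/
theorem vv_mul (i : Fin 5) : (∑ j, Z j - Z i) * (∑ j, Z j - Z i) = (4 : K) • (1 : R K V) := by
  have h1 : ∀ j, (∑ k, Z k) * Z j + Z j * ∑ k, Z k = (2 : K) • (1 : R K V) := by
    intro j
    rw [Finset.sum_mul, Finset.mul_sum, ← Finset.sum_add_distrib, Finset.sum_eq_single j]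
    · rw [hZ.sq, two_smul]
    · intro k _ hk
      rw [hZ.anti k j hk]
      simp
    · intro h
      exact absurd (Finset.mem_univ j) h
  have h2 : (∑ k, Z k) * (∑ k, Z k) = (5 : K) • (1 : R K V) := by
    have h3 : (2 : K) • ((∑ k, Z k) * (∑ k, Z k)) = (2 : K) • ((5 : K) • (1 : R K V)) := by
      have h4 : ∑ j, ((∑ k, Z k) * Z j + Z j * ∑ k, Z k) = ∑ j : Fin 5, (2 : K) • (1 : R K V) :=
        Finset.sum_congr rfl fun j _ => h1 j
      rw [Finset.sum_add_distrib, ← Finset.mul_sum, ← Finset.sum_mul, ← two_smul K] at h4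
      rw [h4]
      simp only [Finset.sum_const, Finset.card_univ, Fintype.card_fin, smul_smul]
      rw [← Nat.cast_smul_eq_nsmul K, smul_smul]
      norm_num
    exact (smul_right_injective _ hZ.two) h3
  have h5 : (∑ j, Z j - Z i) * (∑ j, Z j - Z i) =
      (∑ k, Z k) * (∑ k, Z k) - ((∑ k, Z k) * Z i + Z i * ∑ k, Z k) + Z i * Z i := by noncomm_ring
  rw [h5, h2, h1, hZ.sq, ← sub_smul]
  have h6 : (1 : R K V) = (1 : K) • (1 : R K V) := (one_smul _ _).symm
  nth_rw 2 [h6]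
  rw [← add_smul]
  norm_num

theorem vv_comm (i j : Fin 5) (hij : j ≠ i) :
    (∑ k, Z k - Z i) * Z j + Z j * (∑ k, Z k - Z i) = (2 : K) • (1 : R K V) := by
  rw [sub_mul, mul_sub, hZ.anti i j hij.symm]
  rw [Finset.sum_mul, Finset.mul_sum]
  have h : ∑ k, Z k * Z j - -(Z j * Z i) + (∑ k, Z j * Z k - Z j * Z i) = ∑ k, (Z k * Z j + Z j * Z k) := by
    rw [Finset.sum_add_distrib]
    abel
  rw [h, Finset.sum_eq_single j]
  · rw [hZ.sq, two_smul]
  · intro k _ hk
    rw [hZ.anti k j hk]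
    simp
  · intro h
    exact absurd (Finset.mem_univ j) h

theorem vv_comm_self (i : Fin 5) :
    (∑ k, Z k - Z i) * Z i + Z i * (∑ k, Z k - Z i) = 0 := by
  rw [sub_mul, mul_sub]
  rw [Finset.sum_mul, Finset.mul_sum]
  have h : ∑ k, Z k * Z i - Z i * Z i + (∑ k, Z i * Z k - Z i * Z i) =
      ∑ k, (Z k * Z i + Z i * Z k) - (Z i * Z i + Z i * Z i) := by
    rw [Finset.sum_add_distrib]
    abel
  rw [h, Finset.sum_eq_single i, sub_self]
  · intro k _ hk
    rw [hZ.anti k i hk]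
    simp
  · intro h
    exact absurd (Finset.mem_univ i) h

/-- the involution `xᵢ` -/
def xx (i : Fin 5) : (R K V)ˣ where
  val := (1 / 2 : K) • (∑ k, Z k - Z i)
  inv := (1 / 2 : K) • (∑ k, Z k - Z i)
  val_inv := by
    rw [smul_mul_smul_comm, hZ.vv_mul, smul_smul]
    have h : (1 / 2 : K) * (1 / 2) * 4 = 1 := by
      have := hZ.two
      field_simp
      norm_num
    rw [h, one_smul]
  inv_val := by
    rw [smul_mul_smul_comm, hZ.vv_mul, smul_smul]
    have h : (1 / 2 : K) * (1 / 2) * 4 = 1 := by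
      have := hZ.two
      field_simp
      norm_num
    rw [h, one_smul]

theorem xx_inv (i : Fin 5) : (hZ.xx i)⁻¹ = hZ.xx i := rfl

theorem cj_xx_self (i : Fin 5) : cj K V (hZ.xx i) (Z i) = - Z i := by
  have h2 : (1 / 2 : K) * (1 / 2) * 4 = 1 := by
    have := hZ.two
    field_simp
    norm_num
  have h1 : (∑ k, Z k - Z i) * Z i = -(Z i * (∑ k, Z k - Z i)) := eq_neg_of_add_eq_zero_left (hZ.vv_comm_self i)
  change ((1 / 2 : K) • (∑ k, Z k - Z i)) * Z i * ((1 / 2 : K) • (∑ k, Z k - Z i)) = _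
  rw [smul_mul_assoc, smul_mul_smul_comm, h1, neg_mul, mul_assoc, hZ.vv_mul, mul_smul_comm, mul_one, smul_neg,
    smul_smul, h2, one_smul]

theorem cj_xx_of_ne (i j : Fin 5) (hij : j ≠ i) :
    (2 : K) • cj K V (hZ.xx i) (Z j) = (∑ k, Z k - Z i) - (2 : K) • Z j := by
  have h2 : (1 / 2 : K) * (1 / 2) * 4 = 1 := by
    have := hZ.two
    field_simp
    norm_num
  have h3 : (2 : K) * ((1 / 2 : K) * (1 / 2)) * 2 = 1 := by
    have := hZ.two
    field_simp
  have h1 : (∑ k, Z k - Z i) * Z j = (2 : K) • (1 : R K V) - Z j * (∑ k, Z k - Z i) :=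
    eq_sub_of_add_eq (hZ.vv_comm i j hij)
  change (2 : K) • (((1 / 2 : K) • (∑ k, Z k - Z i)) * Z j * ((1 / 2 : K) • (∑ k, Z k - Z i))) = _
  rw [smul_mul_assoc, smul_mul_smul_comm, h1, sub_mul, mul_assoc, hZ.vv_mul, mul_smul_comm, mul_one, smul_mul_assoc,
    one_mul, smul_smul, smul_sub, smul_smul, smul_smul, h3, one_smul, mul_assoc, h2, mul_one]

theorem cj_xx (i j : Fin 5) :
    (2 : K) • cj K V (hZ.xx i) (Z j) = zz Z (fun k => (aa i j k : K)) := by
  by_cases hij : j = i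
  · subst hij
    rw [hZ.cj_xx_self]
    unfold zz aa
    simp
  · rw [hZ.cj_xx_of_ne i j hij]
    unfold zz aa
    have h : ∀ k, (((if j = i then (if k = i then (-2 : ℤ) else 0) else
        (if k = i then 0 else if j = k then -1 else 1)) : ℤ) : K) • Z k =
        Z k - (if k = i then Z k else 0) - (if k = j then (2 : K) • Z k else 0) := by
      intro k
      rw [if_neg hij]
      by_cases h1 : k = i
      · subst h1
        rw [if_pos rfl, if_pos rfl, if_neg (Ne.symm hij)]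
        simp
      · rw [if_neg h1, if_neg h1]
        by_cases h2 : k = j
        · subst h2
          rw [if_pos rfl, if_pos rfl]
          have h3 : ((-1 : ℤ) : K) = 1 - 2 := by norm_num
          rw [h3, sub_smul, one_smul, sub_zero]
        · rw [if_neg (Ne.symm h2), if_neg h2]
          simp
    rw [Finset.sum_congr rfl fun k _ => h k, Finset.sum_sub_distrib, Finset.sum_sub_distrib]
    simp

end Frame

theorem add_sum {f : R K V → R K V} (hf : ∀ X Y, f (X + Y) = f X + f Y) (n : Fin 5 → ℤ) (Z : Fin 5 → R K V) :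
    f (zz Z fun k => (n k : K)) = ∑ k, (n k : K) • f (Z k) := by
  unfold zz
  have h := map_sum (AddMonoidHom.mk' f hf) (fun k => (n k : K) • Z k) Finset.univ
  refine h.trans (Finset.sum_congr rfl fun k _ => ?_)
  have h2 := map_zsmul (AddMonoidHom.mk' f hf) (n k) (Z k)
  rw [Int.cast_smul_eq_zsmul, Int.cast_smul_eq_zsmul]
  exact h2

namespace Frame

variable {b : Cl K V} {Z : Fin 5 → R K V} (hZ : Frame b Z)
include hZ

theorem cj_zz (i : Fin 5) (c : Fin 5 → K) :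
    (2 : K) • cj K V (hZ.xx i) (zz Z c) = zz Z (fun l => ∑ k, c k * (aa i k l : K)) := by
  have h1 : cj K V (hZ.xx i) (zz Z c) = ∑ k, c k • cj K V (hZ.xx i) (Z k) := by
    unfold zz
    simp only [cj_apply, Finset.mul_sum, Finset.sum_mul, mul_smul_comm, smul_mul_assoc]
  rw [h1, Finset.smul_sum]
  have h2 : ∀ k, (2 : K) • c k • cj K V (hZ.xx i) (Z k) = c k • zz Z (fun l => (aa i k l : K)) := by
    intro k
    rw [smul_comm, hZ.cj_xx]
  rw [Finset.sum_congr rfl fun k _ => h2 k]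
  unfold zz
  simp only [Finset.smul_sum, Finset.sum_smul, smul_smul]
  rw [Finset.sum_comm]

/-- the matrix of `4 cj(xᵢ) f cj(xᵢ)⁻¹` -/
theorem key {f : Equiv.Perm (R K V)} (hf : ∀ X Y, f (X + Y) = f X + f Y) {π π' : Fin 5 → Fin 5} {ε ε' : Fin 5 → ℤ}
    (hfZ : ∀ k, f (Z k) = (ε k : K) • Z (π k)) {i : Fin 5}
    (hfZ' : ∀ k, (cj K V (hZ.xx i) * f * (cj K V (hZ.xx i))⁻¹) (Z k) = (ε' k : K) • Z (π' k)) (j l : Fin 5) :
    ((MM i π ε j l : ℤ) : K) = if l = π' j then 4 * (ε' j : K) else 0 := by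
  have h1 : (cj K V (hZ.xx i) * f * (cj K V (hZ.xx i))⁻¹) (Z j) =
      cj K V (hZ.xx i) (f (cj K V (hZ.xx i) (Z j))) := by
    rw [← map_inv, hZ.xx_inv]
    rfl
  have h2 : (2 : K) • f (cj K V (hZ.xx i) (Z j)) = zz Z (fun l => ∑ k, (aa i j k : K) * (if l = π k then (ε k : K) else 0)) := by
    have h3 : (2 : K) • f (cj K V (hZ.xx i) (Z j)) = f ((2 : K) • cj K V (hZ.xx i) (Z j)) := by
      rw [two_smul, two_smul, hf]
    rw [h3, hZ.cj_xx, add_sum hf]
    have h4 : ∀ k, (aa i j k : K) • f (Z k) = ∑ l, ((aa i j k : K) * (if l = π k then (ε k : K) else 0)) • Z l := by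
      intro k
      rw [hfZ]
      simp [smul_smul]
    rw [Finset.sum_congr rfl fun k _ => h4 k, Finset.sum_comm]
    unfold zz
    simp only [Finset.sum_smul]
  have h5 : (4 : K) • (cj K V (hZ.xx i) * f * (cj K V (hZ.xx i))⁻¹) (Z j) =
      zz Z (fun l => ∑ m, (∑ k, (aa i j k : K) * (if m = π k then (ε k : K) else 0)) * (aa i m l : K)) := by
    rw [h1, ← hZ.cj_zz, ← h2]
    simp only [cj_apply, mul_smul_comm, smul_mul_assoc, smul_smul]
    norm_num
  rw [hfZ', smul_smul, zz_single] at h5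
  have h6 := congrFun (zz_inj hZ.indep h5) l
  refine Eq.trans ?_ h6.symm
  unfold MM
  have h7 : ∀ k, ∑ m, (aa i j k : K) * (if m = π k then (ε k : K) else 0) * (aa i m l : K) =
      (aa i j k : K) * (ε k : K) * (aa i (π k) l : K) := by
    intro k
    rw [Finset.sum_eq_single (π k)]
    · rw [if_pos rfl]
    · intro m _ hm
      rw [if_neg hm]
      ring
    · intro h
      exact absurd (Finset.mem_univ _) h
  simp only [Finset.sum_mul]
  rw [Finset.sum_comm, Finset.sum_congr rfl fun k _ => h7 k, Fin.sum_univ_five]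
  push_cast
  ring

theorem key_fix {f : Equiv.Perm (R K V)} (hf : ∀ X Y, f (X + Y) = f X + f Y) {π π' : Fin 5 → Fin 5}
    {ε ε' : Fin 5 → ℤ} (hε : ∀ k, ε k = 1 ∨ ε k = -1)
    (hfZ : ∀ k, f (Z k) = (ε k : K) • Z (π k)) {i : Fin 5}
    (hfZ' : ∀ k, (cj K V (hZ.xx i) * f * (cj K V (hZ.xx i))⁻¹) (Z k) = (ε' k : K) • Z (π' k)) : π i = i := by
  by_contra hne
  obtain ⟨l, hl1, hl2⟩ : ∃ l : Fin 5, l ≠ i ∧ l ≠ π' i := exists_ne_two i (π' i)
  have h := hZ.key hf hfZ hfZ' i l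
  rw [if_neg hl2] at h
  have h1 : MM i π ε i l = -2 * ε i * aa i (π i) l := by
    have h2 : MM i π ε i l = ∑ k, aa i i k * ε k * aa i (π k) l := by
      rw [Fin.sum_univ_five]
      rfl
    rw [h2, Finset.sum_eq_single i]
    · unfold aa
      simp
    · intro k _ hk
      unfold aa
      simp [hk]
    · intro h
      exact absurd (Finset.mem_univ _) h
  have h2 : aa i (π i) l = 1 ∨ aa i (π i) l = -1 := by
    unfold aa
    rw [if_neg hne, if_neg hl1]
    split_ifs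
    · right; rfl
    · left; rfl
  rw [h1] at h
  push_cast at h
  have h3 := hZ.two
  rcases hε i with h4 | h4 <;> rcases h2 with h5 | h5 <;> rw [h4, h5] at h <;> norm_num at h <;> exact h3 h

theorem key_row {f : Equiv.Perm (R K V)} (hf : ∀ X Y, f (X + Y) = f X + f Y) {π' : Fin 5 → Fin 5}
    {ε' : Fin 5 → ℤ} {t0 t1 t2 t3 t4 : Bool}
    (hfZ : ∀ k, f (Z k) = ((![sg t0, sg t1, sg t2, sg t3, sg t4] k : ℤ) : K) • Z k) {i : Fin 5}
    (hfZ' : ∀ k, (cj K V (hZ.xx i) * f * (cj K V (hZ.xx i))⁻¹) (Z k) = (ε' k : K) • Z (π' k)) (j : Fin 5) :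
    Row i ![sg t0, sg t1, sg t2, sg t3, sg t4] j (π' j) := by
  intro l hl
  have h := hZ.key (π := id) hf hfZ hfZ' j l
  rw [if_neg hl] at h
  have h2 := hZ.two
  have h4 := hZ.ne_zero_four
  rcases mm_vals i t0 t1 t2 t3 t4 j l with h1 | h1 | h1 | h1 | h1
  · exact h1
  all_goals
    rw [h1] at h
    push_cast at h
    exfalso
    first | exact h2 h | exact h4 h | exact h2 (neg_eq_zero.1 h) | exact h4 (neg_eq_zero.1 h)

/-- the linear part -/
theorem fixed (S : Subgroup (Equiv.Perm (R K V))) (hSP : S ≤ RP K V)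
    (hS : ∀ f ∈ S, ∃ (π : Equiv.Perm (Fin 5)) (ε : Fin 5 → ℤ), (∀ i, ε i = 1 ∨ ε i = -1) ∧
      ∀ i, f (Z i) = (ε i : K) • Z (π i))
    (hG : ∀ f ∈ S, ∀ (π : Equiv.Perm (Fin 5)) (ε : Fin 5 → ℤ), (∀ i, ε i = 1 ∨ ε i = -1) →
      (∀ i, f (Z i) = (ε i : K) • Z (π i)) → ∀ i j, i ≠ j → π i = i → π j = j → π = 1)
    {f : Equiv.Perm (R K V)} (hf : f ∈ S) (h4 : cj K V (hZ.xx 4) * f * (cj K V (hZ.xx 4))⁻¹ ∈ S)
    (h3 : cj K V (hZ.xx 3) * f * (cj K V (hZ.xx 3))⁻¹ ∈ S) : ∀ i, f (Z i) = Z i := by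
  obtain ⟨π, ε, hε, hfZ⟩ := hS f hf
  obtain ⟨π4, ε4, hε4, hfZ4⟩ := hS _ h4
  obtain ⟨π3, ε3, hε3, hfZ3⟩ := hS _ h3
  have hfa := (hSP hf).1
  have hfm := (hSP hf).2
  have e1 : π 4 = 4 := hZ.key_fix hfa hε hfZ hfZ4
  have e2 : π 3 = 3 := hZ.key_fix hfa hε hfZ hfZ3
  have e3 : π = 1 := hG f hf π ε hε hfZ 4 3 (by decide) e1 e2
  subst e3
  obtain ⟨t0, ht0⟩ := exists_sg (hε 0)
  obtain ⟨t1, ht1⟩ := exists_sg (hε 1)
  obtain ⟨t2, ht2⟩ := exists_sg (hε 2)
  obtain ⟨t3, ht3⟩ := exists_sg (hε 3)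
  obtain ⟨t4, ht4⟩ := exists_sg (hε 4)
  have he : ε = ![sg t0, sg t1, sg t2, sg t3, sg t4] := by
    funext i
    fin_cases i <;> assumption
  rw [he] at hfZ
  have r4 : ∀ j, Row 4 ![sg t0, sg t1, sg t2, sg t3, sg t4] j (π4 j) := fun j => hZ.key_row hfa hfZ hfZ4 j
  have r3 : ∀ j, Row 3 ![sg t0, sg t1, sg t2, sg t3, sg t4] j (π3 j) := fun j => hZ.key_row hfa hfZ hfZ3 j
  have c4 := comb1 4 t0 t1 t2 t3 t4 fun j => ⟨_, r4 j⟩
  have c3 := comb1 3 t0 t1 t2 t3 t4 fun j => ⟨_, r3 j⟩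
  -- the product
  have hprod : xor (xor (xor (xor t0 t1) t2) t3) t4 = false := by
    have f1 : f 1 = 1 := by
      have h := hfm 1 (f.symm 1)
      rw [one_mul, Equiv.apply_symm_apply, mul_one] at h
      exact h.symm
    have f0 : f 0 = 0 := by
      have h := hfa 0 0
      rw [add_zero] at h
      exact left_eq_add.1 h
    have fn : f (-1) = -1 := by
      have h := hfa 1 (-1)
      rw [add_neg_cancel, f0, f1] at h
      exact (neg_eq_of_add_eq_zero_right h.symm).symm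
    have h1 : f (Z 0 * Z 1 * Z 2 * Z 3 * Z 4) = Z 0 * Z 1 * Z 2 * Z 3 * Z 4 := by
      rcases hZ.prod with h | h
      · rw [h, f1]
      · rw [h, fn]
    have h2 : f (Z 0 * Z 1 * Z 2 * Z 3 * Z 4) =
        ((sg t0 * sg t1 * sg t2 * sg t3 * sg t4 : ℤ) : K) • (Z 0 * Z 1 * Z 2 * Z 3 * Z 4) := by
      rw [hfm, hfm, hfm, hfm, hfZ, hfZ, hfZ, hfZ, hfZ]
      simp only [smul_mul_smul_comm]
      push_cast
      rfl
    have h3 : ((sg t0 * sg t1 * sg t2 * sg t3 * sg t4 : ℤ) : K) = 1 := by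
      have h5 : Z 0 * Z 1 * Z 2 * Z 3 * Z 4 ≠ 0 := by
        have h6 : (1 : R K V) ≠ 0 := by
          intro h
          apply hZ.indep.ne_zero 0
          rw [← mul_one (Z 0), h, mul_zero]
        rcases hZ.prod with h | h
        · rw [h]; exact h6
        · rw [h]; exact neg_ne_zero.2 h6
      rw [h1] at h2
      have h7 : (((sg t0 * sg t1 * sg t2 * sg t3 * sg t4 : ℤ) : K) - 1) • (Z 0 * Z 1 * Z 2 * Z 3 * Z 4) = 0 := by
        rw [sub_smul, one_smul, ← h2, sub_self]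
      exact sub_eq_zero.1 ((smul_eq_zero.1 h7).resolve_right h5)
    rw [sg_prod] at h3
    by_contra hne
    rw [Bool.not_eq_false] at hne
    rw [hne] at h3
    apply hZ.two
    unfold sg at h3
    simp only [if_true] at h3
    push_cast at h3
    have h9 : (2 : K) = 1 - (-1) := by norm_num
    rw [h9, h3, sub_self]
  rw [hprod] at c4 c3
  have e4 : t4 = false := c4.symm
  have e5 : t3 = false := c3.symm
  subst e4 e5
  have hx : xor (xor t0 t1) t2 = false := by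
    rw [Bool.xor_false, Bool.xor_false] at hprod
    exact hprod
  by_cases hall : t0 = true ∨ t1 = true ∨ t2 = true
  · exfalso
    obtain ⟨a, c, d, hac, hd, w1, w2, w3, w4, w5, w6⟩ := comb2 t0 t1 t2 hx hall
    have p1 := w1 _ (r4 a)
    have p2 := w2 _ (r4 c)
    have p3 := w3 _ (r3 a)
    have p4 := w4 _ (r3 c)
    have p5 := w5 _ (r3 d)
    have p6 := w6 _ (r4 4)
    have hg := mul_mem h4 h3
    have hgZ : ∀ i, ((cj K V (hZ.xx 4) * f * (cj K V (hZ.xx 4))⁻¹) * (cj K V (hZ.xx 3) * f * (cj K V (hZ.xx 3))⁻¹)) (Z i) =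
        (((fun i => ε3 i * ε4 (π3 i)) i : ℤ) : K) • Z ((π4 * π3) i) := by
      intro i
      rw [Equiv.Perm.mul_apply, hfZ3]
      have hadd := (hSP h4).1
      have h := map_zsmul (AddMonoidHom.mk' _ hadd) (ε3 i) (Z (π3 i))
      rw [Int.cast_smul_eq_zsmul]
      refine h.trans ?_
      change ε3 i • (cj K V (hZ.xx 4) * f * (cj K V (hZ.xx 4))⁻¹) (Z (π3 i)) = _
      rw [hfZ4, ← Int.cast_smul_eq_zsmul K (ε3 i), smul_smul]
      push_cast
      rfl
    have hone := hG _ hg (π4 * π3) (fun i => ε3 i * ε4 (π3 i)) (fun i => by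
      rcases hε3 i with h | h <;> rcases hε4 (π3 i) with h' | h' <;> rw [h, h'] <;> simp) hgZ a c hac
      (by rw [Equiv.Perm.mul_apply, p3, p2]) (by rw [Equiv.Perm.mul_apply, p4, p1])
    have h := Equiv.congr_fun hone d
    rw [Equiv.Perm.mul_apply, p5, p6] at h
    exact hd h.symm
  · push Not at hall
    have q0 : t0 = false := Bool.eq_false_of_not_eq_true hall.1
    have q1 : t1 = false := Bool.eq_false_of_not_eq_true hall.2.1
    have q2 : t2 = false := Bool.eq_false_of_not_eq_true hall.2.2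
    subst q0 q1 q2
    intro i
    rw [hfZ i]
    have h : (![sg false, sg false, sg false, sg false, sg false] : Fin 5 → ℤ) i = 1 := by
      fin_cases i <;> rfl
    rw [h]
    simp

theorem det_Z (hn : Module.finrank K V = 4) (i : Fin 5) : LinearMap.det (Z i) = 1 := by
  have h0 : ∀ j, LinearMap.det (Z j) = LinearMap.det (Z i) := by
    intro j
    by_cases hij : j = i
    · rw [hij]
    · rw [det_aux (hZ.sq j) (hZ.sq i) hZ.two (by
        rw [sub_mul, mul_sub, mul_sub, hZ.sq, hZ.sq, hZ.anti j i hij, two_smul]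
        abel), det_neg_four hn]
  have h1 : LinearMap.det (Z 0 * Z 1 * Z 2 * Z 3 * Z 4) = 1 := by
    rcases hZ.prod with h | h
    · rw [h, map_one]
    · rw [h, det_neg_four hn, map_one]
  rw [map_mul, map_mul, map_mul, map_mul, h0 0, h0 1, h0 2, h0 3, h0 4] at h1
  have h2 := congrArg LinearMap.det (hZ.sq i)
  rw [map_mul, map_one] at h2
  calc LinearMap.det (Z i) = LinearMap.det (Z i) * (LinearMap.det (Z i) * LinearMap.det (Z i)) *
        (LinearMap.det (Z i) * LinearMap.det (Z i)) := by rw [h2]; ring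
    _ = _ := by rw [← h1]; ring

theorem det_xx (hn : Module.finrank K V = 4) (i : Fin 5) : LinearMap.det ((hZ.xx i : (R K V)ˣ) : R K V) = 1 := by
  obtain ⟨j, hj, -⟩ := exists_ne_two i i
  have h1 : ((hZ.xx i : (R K V)ˣ) : R K V) * ((hZ.xx i : (R K V)ˣ) : R K V) = 1 := (hZ.xx i).mul_inv
  have h2 : Z j * ((hZ.xx i : (R K V)ˣ) : R K V) + ((hZ.xx i : (R K V)ˣ) : R K V) * Z j = 1 := by
    change Z j * ((1 / 2 : K) • (∑ k, Z k - Z i)) + ((1 / 2 : K) • (∑ k, Z k - Z i)) * Z j = 1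
    rw [mul_smul_comm, smul_mul_assoc, ← smul_add, add_comm, hZ.vv_comm i j hj, smul_smul]
    have h : (1 / 2 : K) * 2 = 1 := by
      have := hZ.two
      field_simp
    rw [h, one_smul]
  rw [← det_neg_four hn, ← det_aux (hZ.sq j) h1 one_ne_zero (by
    rw [sub_mul, mul_sub, mul_sub, hZ.sq, h1, one_smul]
    have h3 : Z j * ((hZ.xx i : (R K V)ˣ) : R K V) = 1 - ((hZ.xx i : (R K V)ˣ) : R K V) * Z j := eq_sub_of_add_eq h2
    rw [h3]
    abel), hZ.det_Z hn]

theorem adj_sum (s : Finset (Fin 5)) : b.Adj (∑ k ∈ s, Z k) (∑ k ∈ s, Z k) := by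
  classical
  induction s using Finset.induction_on with
  | empty =>
    rw [Finset.sum_empty]
    intro v w
    have h0 : b.B 0 w = 0 := by
      have h := b.add_left 0 0 w
      rw [add_zero] at h
      exact left_eq_add.1 h
    have h1 : b.B v 0 = 0 := by
      have h := b.add_right v 0 0
      rw [add_zero] at h
      exact left_eq_add.1 h
    change b.B 0 w = b.B v 0
    rw [h0, h1]
  | insert a s ha ih =>
    rw [Finset.sum_insert ha]
    exact adj_add (hZ.adj a) ih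

theorem adj_xx (hτ : ∀ a, b.τ a = a) (i : Fin 5) :
    b.Adj ((hZ.xx i : (R K V)ˣ) : R K V) ((hZ.xx i : (R K V)ˣ) : R K V) := by
  change b.Adj ((1 / 2 : K) • (∑ k, Z k - Z i)) ((1 / 2 : K) • (∑ k, Z k - Z i))
  apply adj_smul hτ
  rw [sub_eq_add_neg]
  exact adj_add (hZ.adj_sum _) (adj_neg hτ (hZ.adj i))

theorem isom_xx (hτ : ∀ a, b.τ a = a) (i : Fin 5) : b.Isom ((hZ.xx i : (R K V)ˣ) : R K V) :=
  isom_of_adj (hZ.adj_xx hτ i) (hZ.xx i).mul_inv

/-! ### the transvection -/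

/-- `N = Z₀ (Z₁ + α Z₂ + β Z₃)`, `1 + α² + β² = 0` -/
theorem uu_sq {α β : K} (h : 1 + α ^ 2 + β ^ 2 = 0) :
    (Z 1 + α • Z 2 + β • Z 3) * (Z 1 + α • Z 2 + β • Z 3) = 0 := by
  have h1 : (Z 1 + α • Z 2 + β • Z 3) * (Z 1 + α • Z 2 + β • Z 3) =
      (Z 1 * Z 1 + (α ^ 2) • (Z 2 * Z 2) + (β ^ 2) • (Z 3 * Z 3)) + α • (Z 1 * Z 2 + Z 2 * Z 1) +
        β • (Z 1 * Z 3 + Z 3 * Z 1) + (α * β) • (Z 2 * Z 3 + Z 3 * Z 2) := by
    simp only [add_mul, mul_add, smul_mul_assoc, mul_smul_comm, smul_smul, smul_add, pow_two]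
    rw [mul_comm β α]
    abel
  rw [h1, hZ.sq, hZ.sq, hZ.sq, hZ.anti 1 2 (by decide), hZ.anti 1 3 (by decide), hZ.anti 2 3 (by decide)]
  simp only [neg_add_cancel, smul_zero, add_zero]
  rw [← one_smul K (1 : R K V), smul_smul, smul_smul, ← add_smul, ← add_smul, mul_one, mul_one, h, zero_smul]

theorem uu_anti (α β : K) : Z 0 * (Z 1 + α • Z 2 + β • Z 3) = -((Z 1 + α • Z 2 + β • Z 3) * Z 0) := by
  simp only [add_mul, mul_add, smul_mul_assoc, mul_smul_comm]
  rw [hZ.anti 0 1 (by decide), hZ.anti 0 2 (by decide), hZ.anti 0 3 (by decide)]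
  simp only [smul_neg]
  abel

theorem uu_adj (hτ : ∀ a, b.τ a = a) (α β : K) :
    b.Adj (Z 1 + α • Z 2 + β • Z 3) (Z 1 + α • Z 2 + β • Z 3) :=
  adj_add (adj_add (hZ.adj 1) (adj_smul hτ (hZ.adj 2) α)) (adj_smul hτ (hZ.adj 3) β)

end Frame

/-! ### abstract transvections: `Z² = 1`, `u² = 0`, `Z u = - u Z`; `1 + c Z u` -/

theorem nn_sq {Z u : R K V} (hu : u * u = 0) (hZu : Z * u = -(u * Z)) : Z * u * (Z * u) = 0 := by
  calc Z * u * (Z * u) = Z * (u * Z) * u := by noncomm_ring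
    _ = -(Z * Z * (u * u)) := by
      rw [show u * Z = -(Z * u) by rw [hZu, neg_neg]]
      noncomm_ring
    _ = 0 := by rw [hu, mul_zero, neg_zero]

/-- the transvection -/
def tv {Z u : R K V} (hu : u * u = 0) (hZu : Z * u = -(u * Z)) (c : K) : (R K V)ˣ where
  val := 1 + c • (Z * u)
  inv := 1 - c • (Z * u)
  val_inv := by
    rw [add_mul, mul_sub, mul_sub, smul_mul_smul_comm, nn_sq hu hZu]
    simp
  inv_val := by
    rw [sub_mul, mul_add, mul_add, smul_mul_smul_comm, nn_sq hu hZu]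
    simp

theorem tv_det {Z u : R K V} (h2 : (2 : K) ≠ 0) (hZ : Z * Z = 1) (hu : u * u = 0) (hZu : Z * u = -(u * Z)) (c : K) :
    LinearMap.det ((tv hu hZu c : (R K V)ˣ) : R K V) = 1 := by
  have h : ((tv hu hZu c : (R K V)ˣ) : R K V) * (Z * ((tv hu hZu (c / 2) : (R K V)ˣ) : R K V)) =
      ((tv hu hZu (c / 2) : (R K V)ˣ) : R K V) * Z := by
    change (1 + c • (Z * u)) * (Z * (1 + (c / 2) • (Z * u))) = (1 + (c / 2) • (Z * u)) * Z
    have e1 : Z * (Z * u) = u := by rw [← mul_assoc, hZ, one_mul]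
    have e2 : Z * u * Z = -u := by
      rw [hZu, neg_mul, mul_assoc, hZ, mul_one]
    have e3 : Z * u * u = 0 := by rw [mul_assoc, hu, mul_zero]
    simp only [mul_add, add_mul, mul_one, one_mul, mul_smul_comm, smul_mul_assoc, e1, e2, e3, smul_zero, smul_neg,
      add_zero]
    have h3 : c • u = (c / 2) • u + (c / 2) • u := by
      have : NeZero (2 : K) := ⟨h2⟩
      rw [← add_smul, add_halves]
    rw [h3]
    abel
  have h1 := congrArg LinearMap.det h
  rw [map_mul, map_mul, map_mul, mul_comm (LinearMap.det Z)] at h1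
  have h4 : LinearMap.det ((tv hu hZu (c / 2) : (R K V)ˣ) : R K V) * LinearMap.det Z ≠ 0 := by
    apply mul_ne_zero
    · exact (((tv hu hZu (c / 2)).isUnit.map (LinearMap.det : R K V →* K))).ne_zero
    · intro h0
      have := congrArg LinearMap.det hZ
      rw [map_mul, h0, zero_mul, map_one] at this
      exact one_ne_zero this.symm
  exact mul_right_cancel₀ h4 (by rw [h1, one_mul])

theorem tv_isom {b : Cl K V} (hτ : ∀ a, b.τ a = a) {Z u : R K V} (hu : u * u = 0) (hZu : Z * u = -(u * Z))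
    (hZ : b.Adj Z Z) (hu' : b.Adj u u) (c : K) : b.Isom ((tv hu hZu c : (R K V)ˣ) : R K V) := by
  refine isom_of_adj (Y := ((tv hu hZu c)⁻¹ : (R K V)ˣ)) ?_ (tv hu hZu c).inv_mul
  change b.Adj (1 + c • (Z * u)) (1 - c • (Z * u))
  rw [sub_eq_add_neg, ← smul_neg, hZu, neg_neg, ← hZu]
  refine adj_add adj_one (adj_smul hτ ?_ c)
  exact adj_mul hZ hu'

theorem tv_Z {Z u : R K V} (hZ : Z * Z = 1) (hu : u * u = 0) (hZu : Z * u = -(u * Z)) (c : K) :
    cj K V (tv hu hZu c) Z = Z - (2 * c) • u := by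
  change (1 + c • (Z * u)) * Z * (1 - c • (Z * u)) = _
  have e1 : Z * (Z * u) = u := by rw [← mul_assoc, hZ, one_mul]
  have e2 : Z * u * Z = -u := by
    rw [hZu, neg_mul, mul_assoc, hZ, mul_one]
  have e3 : u * (Z * u) = 0 := by rw [hZu, mul_neg, ← mul_assoc, hu, zero_mul, neg_zero]
  rw [add_mul, one_mul, smul_mul_assoc, e2, mul_sub, mul_one, mul_smul_comm, add_mul, e1, smul_mul_assoc, neg_mul, e3]
  rw [two_mul, add_smul]
  simp only [smul_neg, neg_zero, smul_zero, add_zero]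
  abel

theorem tv_Z_inv {Z u : R K V} (hZ : Z * Z = 1) (hu : u * u = 0) (hZu : Z * u = -(u * Z)) (c : K) :
    (cj K V (tv hu hZu c))⁻¹ Z = Z + (2 * c) • u := by
  rw [← map_inv]
  have h : (tv hu hZu c)⁻¹ = tv hu hZu (-c) := by
    apply Units.ext
    change 1 - c • (Z * u) = 1 + (-c) • (Z * u)
    rw [neg_smul, sub_eq_add_neg]
  rw [h, tv_Z hZ, mul_neg, neg_smul, sub_neg_eq_add]

theorem tv_u {Z u : R K V} (hu : u * u = 0) (hZu : Z * u = -(u * Z)) (c : K) :
    cj K V (tv hu hZu c) u = u := by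
  change (1 + c • (Z * u)) * u * (1 - c • (Z * u)) = _
  have e2 : Z * u * u = 0 := by rw [mul_assoc, hu, mul_zero]
  have e3 : u * (Z * u) = 0 := by rw [hZu, mul_neg, ← mul_assoc, hu, zero_mul, neg_zero]
  rw [add_mul, one_mul, smul_mul_assoc, e2, mul_sub, mul_one, mul_smul_comm, smul_zero, add_zero, e3, smul_zero,
    sub_zero]

theorem exists_center {f : Equiv.Perm (R K V)} (hf : f ∈ RP K V) (c : K) : ∃ c' : K, f (c • (1 : R K V)) = c' • (1 : R K V) := by
  have h : f (c • (1 : R K V)) ∈ Set.center (Module.End K V) := by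
    rw [Semigroup.mem_center_iff]
    intro g
    obtain ⟨X, rfl⟩ := f.surjective g
    rw [← hf.2, ← hf.2]
    congr 1
    simp
  obtain ⟨α, hα, h⟩ := Module.End.mem_center_iff.1 h
  refine ⟨α, ?_⟩
  rw [h]
  ext v
  rfl

theorem map_one' {f : Equiv.Perm (R K V)} (hf : f ∈ RP K V) : f 1 = 1 := by
  have h := hf.2 1 (f.symm 1)
  rw [one_mul, Equiv.apply_symm_apply, mul_one] at h
  exact h.symm

theorem map_pow' {f : Equiv.Perm (R K V)} (hf : f ∈ RP K V) (X : R K V) (n : ℕ) : f (X ^ n) = f X ^ n := by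
  induction n with
  | zero => rw [pow_zero, pow_zero, map_one' hf]
  | succ n ih => rw [pow_succ, pow_succ, hf.2, ih]

theorem map_smul' {f : Equiv.Perm (R K V)} (hf : f ∈ RP K V) {c c' : K} (h : f (c • (1 : R K V)) = c' • (1 : R K V))
    (X : R K V) : f (c • X) = c' • f X := by
  have h1 : c • X = (c • (1 : R K V)) * X := by rw [smul_mul_assoc, one_mul]
  rw [h1, hf.2, h, smul_mul_assoc, one_mul]

theorem map_zero' {f : Equiv.Perm (R K V)} (hf : f ∈ RP K V) : f 0 = 0 := by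
  have h := hf.1 0 0
  rw [add_zero] at h
  exact left_eq_add.1 h

/-- `-1` is a sum of two squares of integers -/
theorem exists_alpha (K : Type*) [Field K] [Finite K] : ∃ α β : ℤ, 1 + (α : K) ^ 2 + (β : K) ^ 2 = 0 := by
  obtain ⟨p, hp⟩ := CharP.exists K
  have hpr : Fact p.Prime := ⟨CharP.char_is_prime K p⟩
  obtain ⟨a, c, h⟩ := ZMod.sq_add_sq p (-1)
  refine ⟨a.val, c.val, ?_⟩
  have h1 := congrArg (ZMod.castHom (dvd_refl p) K) h
  rw [map_add, map_pow, map_pow, map_neg, map_one] at h1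
  have h2 : ∀ x : ZMod p, ZMod.castHom (dvd_refl p) K x = ((x.val : ℤ) : K) := by
    intro x
    rw [ZMod.castHom_apply, ZMod.cast_eq_val]
    simp
  rw [h2, h2] at h1
  rw [add_assoc, h1, add_neg_cancel]

/-- **The final computation.** -/
theorem Frame.five [Finite K] {b : Cl K V} {Z : Fin 5 → R K V} (hZ : Frame b Z) (hτ : ∀ a, b.τ a = a)
    (hn : Module.finrank K V = 4) (S : Subgroup (Equiv.Perm (R K V))) (hSP : S ≤ RP K V)
    (hS : ∀ f ∈ S, ∃ (π : Equiv.Perm (Fin 5)) (ε : Fin 5 → ℤ), (∀ i, ε i = 1 ∨ ε i = -1) ∧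
      ∀ i, f (Z i) = (ε i : K) • Z (π i))
    (hG : ∀ f ∈ S, ∀ (π : Equiv.Perm (Fin 5)) (ε : Fin 5 → ℤ), (∀ i, ε i = 1 ∨ ε i = -1) →
      (∀ i, f (Z i) = (ε i : K) • Z (π i)) → ∀ i j, i ≠ j → π i = i → π j = j → π = 1) : FiveB b S := by
  classical
  obtain ⟨α, β, hαβ⟩ := exists_alpha K
  have := Fintype.ofFinite K
  obtain ⟨c, hc⟩ := IsCyclic.exists_generator (α := Kˣ)
  have hu : (Z 1 + (α : K) • Z 2 + (β : K) • Z 3) * (Z 1 + (α : K) • Z 2 + (β : K) • Z 3) = 0 := hZ.uu_sq hαβ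
  have hZu := hZ.uu_anti (α : K) (β : K)
  refine ⟨![hZ.xx 4, hZ.xx 3, tv hu hZu (c : K), 1], ?_, ?_, ?_⟩
  · intro i
    fin_cases i
    · exact hZ.det_xx hn 4
    · exact hZ.det_xx hn 3
    · exact tv_det hZ.two (hZ.sq 0) hu hZu _
    · exact map_one (LinearMap.det : R K V →* K)
  · intro i
    fin_cases i
    · exact hZ.isom_xx hτ 4
    · exact hZ.isom_xx hτ 3
    · exact tv_isom hτ hu hZu (hZ.adj 0) (hZ.uu_adj hτ _ _) _
    · exact fun v w => rfl
  intro f hf hx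
  have hfP := hSP hf
  have h0 := hx 0
  have h1 := hx 1
  have h2 := hx 2
  change cj K V (hZ.xx 4) * f * (cj K V (hZ.xx 4))⁻¹ ∈ S at h0
  change cj K V (hZ.xx 3) * f * (cj K V (hZ.xx 3))⁻¹ ∈ S at h1
  change cj K V (tv hu hZu c) * f * (cj K V (tv hu hZu c))⁻¹ ∈ S at h2
  have hfZ := hZ.fixed S hSP hS hG hf h0 h1
  obtain ⟨c', hc'⟩ := exists_center hfP (c : K)
  -- the field automorphism is trivial
  have hcc : c' = c := by
    obtain ⟨π, ε, hε, h⟩ := hS _ h2
    have h3 := h 0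
    have hfu : f (Z 1 + (α : K) • Z 2 + (β : K) • Z 3) = Z 1 + (α : K) • Z 2 + (β : K) • Z 3 := by
      have hz : ∀ (n : ℤ) (X : R K V), f ((n : K) • X) = (n : K) • f X := by
        intro n X
        rw [Int.cast_smul_eq_zsmul, Int.cast_smul_eq_zsmul]
        exact map_zsmul (AddMonoidHom.mk' f hfP.1) n X
      rw [hfP.1, hfP.1, hz, hz, hfZ, hfZ, hfZ]
    have hf2 : ∀ X, f ((2 : K) • X) = (2 : K) • f X := by
      intro X
      rw [two_smul, two_smul, hfP.1]
    have h4 : (cj K V (tv hu hZu c) * f * (cj K V (tv hu hZu c))⁻¹) (Z 0) =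
        Z 0 + (2 * (c' - c)) • (Z 1 + (α : K) • Z 2 + (β : K) • Z 3) := by
      rw [Equiv.Perm.mul_apply, Equiv.Perm.mul_apply, tv_Z_inv (hZ.sq 0), hfP.1, mul_smul, hf2, map_smul' hfP hc', hfu,
        hfZ]
      have h5 : ∀ (t : K) (X Y : R K V), cj K V (tv hu hZu c) (X + t • Y) =
          cj K V (tv hu hZu c) X + t • cj K V (tv hu hZu c) Y := by
        intro t X Y
        simp only [cj_apply, mul_add, add_mul, mul_smul_comm, smul_mul_assoc]
      rw [smul_smul, h5, tv_u, tv_Z (hZ.sq 0), mul_sub, sub_smul]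
      abel
    rw [h4] at h3
    have h6 : zz Z ![1, 2 * (c' - c), 2 * (c' - c) * α, 2 * (c' - c) * β, 0] =
        zz Z (fun k => if k = π 0 then (ε 0 : K) else 0) := by
      rw [← zz_single, ← h3]
      unfold zz
      rw [Fin.sum_univ_five]
      simp only [Matrix.cons_val_zero, Matrix.cons_val_one, Matrix.cons_val, smul_add, smul_smul, one_smul, zero_smul,
        add_zero]
      abel
    have h7 := zz_inj hZ.indep h6
    have h8 := congrFun h7 0
    have h9 := congrFun h7 1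
    simp only [Matrix.cons_val_zero, Matrix.cons_val_one] at h8 h9
    have h10 : π 0 = 0 := by
      by_contra hne
      rw [if_neg (Ne.symm hne)] at h8
      exact one_ne_zero h8
    rw [h10, if_neg (by decide)] at h9
    exact sub_eq_zero.1 ((mul_eq_zero.1 h9).resolve_left hZ.two)
  rw [hcc] at hc'
  -- all scalars are fixed
  have hsc : ∀ a : K, f (a • (1 : R K V)) = a • (1 : R K V) := by
    intro a
    by_cases ha : a = 0
    · rw [ha, zero_smul, map_zero' hfP]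
    · obtain ⟨n, hn⟩ := (mem_powers_iff_mem_zpowers (x := c)).2 (hc (Units.mk0 a ha))
      have h3 : a = (c : K) ^ n := by
        have := congrArg (Units.val) hn
        rw [Units.val_mk0] at this
        rw [← this]
        simp
      have h4 : a • (1 : R K V) = ((c : K) • (1 : R K V)) ^ n := by
        rw [smul_pow, one_pow, h3]
      rw [h4, map_pow' hfP, hc']
  -- everything is fixed
  apply Equiv.ext
  intro X
  change f X = X
  have hX : X ∈ Algebra.adjoin K (Set.range Z) := by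
    rw [hZ.gen]
    trivial
  induction hX using Algebra.adjoin_induction with
  | mem x hx =>
    obtain ⟨i, rfl⟩ := hx
    exact hfZ i
  | algebraMap a =>
    rw [Algebra.algebraMap_eq_smul_one]
    exact hsc a
  | add x y _ _ hx hy => rw [hfP.1, hx, hy]
  | mul x y _ _ hx hy => rw [hfP.2, hx, hy]

end Cfsg.Agent.H99.FC
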